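import Cfsg.Agent.OddHalf.Front.FE
import Cfsg.Agent.OddHalf.D9.Kill
import Cfsg.Agent.StandardComponent.AltFinal

-- merged: Cfsg.Agent.OddHalf.D9.CovTwo
section

/-!
# D9: a standard component with even centre and solvable involution centralizers (rows `2.M22`, `4.M22`) (helper322)

`Fr K q z`: `z` is the involution of `R = ⟨q⟩ = C_G(K)`, `z ∈ K`, `K ⊴ C_G(z)`. `KR g`: `g ∈ KR`.

K-facts used:
* `OutTwo K`: `|Out K| ≤ 2`;
* `OrdThree K` (if `|R| ≥ 4`): if `k² ∈ Z(K)`, `k ∉ Z(K)`, then no automorphism `α` fixes all the elements of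
  order 3 commuting with `k` and satisfies `α² = conj k`;
* `SqTwo z` (if `|R| = 2`);
* `OutSq z`: for every outer involutory automorphism `α` inverting the `c ∈ Z(K)` with `c² = z`: `z` is a product of
  squares in `C_K(α)`, or some `q` has `1 ≠ q⁻¹ α(q) ∈ ⟨squares of C_K(α)⟩`.

`Fr.inner_big`, `Fr.inner_two`: `z^G ∩ KR = {z}`. `Fr.false_big`, `Fr.false_two`: the end.
-/

set_option autoImplicit false

namespace Cfsg.Agent.OddHalf.D9.CovTwo

open Subgroup Cfsg Cfsg.Agent.OddHalf.Front.FE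
open Cfsg.Agent.OddHalf.D9.Kill (Ce Fx mem_Ce mem_Fx)
open scoped commutatorElement

universe u

/-! ### K-facts -/

section Facts

variable (K : Type u) [Group K]

/-- `|Out K| ≤ 2`. -/
def OutTwo : Prop := ∀ α β : MulAut K, (∀ k, α ≠ MulAut.conj k) → (∀ k, β ≠ MulAut.conj k) →
  ∃ k, α * β = MulAut.conj k

/-- No automorphism centralizing the elements of order 3 of `C(k)` is a square root of `conj k`, `k̄` an involution of
`K/Z(K)`. -/
def OrdThree : Prop := ∀ k : K, k * k ∈ center K → k ∉ center K → ∀ α : MulAut K,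
  (∀ y : K, y ^ 3 = 1 → y * k = k * y → α y = y) → (∀ x, α (α x) = k * x * k⁻¹) → False

/-- Every involution of `K/Z(K)` commutes with an element of order 3. -/
def Three : Prop := ∀ k : K, k * k ∈ center K → k ∉ center K → ∃ y : K, y ^ 3 = 1 ∧ y ≠ 1 ∧ y * k = k * y

/-- No elements of order 12 in `K/Z(K)`. -/
def NoTwelve : Prop := ∀ k y : K, y ^ 3 = 1 → y ≠ 1 → y * k = k * y → k ^ 4 ∈ center K → k * k ∈ center K

variable {K}

/-- K-facts for `|R| = 2`. -/
structure SqTwo (z : K) : Prop where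
  /-- `z` is not a square -/
  nsq : ∀ k : K, k * k ≠ z
  /-- structure of a Sylow 2-subgroup -/
  syl : ∀ e : K, e * e = 1 → e ≠ 1 → e ≠ z → ∃ P : Sylow 2 K, (∀ p ∈ P, p * e = e * p) ∧
    (∀ p ∈ P, (∀ r ∈ P, p * r = r * p) → p = 1 ∨ p = z ∨ p = e ∨ p = e * z) ∧
    (∃ x ∈ closure {p | p ∈ P ∧ p * p = 1}, x * x = e) ∧ (∃ x ∈ P, x * x = e * z)
  /-- the squares of the lifts of outer involutions are all the same -/
  out : ∀ α : MulAut K, α * α = 1 → (∀ k, α ≠ MulAut.conj k) → ∀ k : K, α k * k ≠ z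

/-- The subgroup generated by the squares of the fixed points of `α`. -/
def SqFx (α : MulAut K) : Subgroup K := closure {w | ∃ y, α y = y ∧ w = y * y}

/-- The fixed points of odd order lie in `SqFx`. -/
theorem mem_SqFx_of_odd {α : MulAut K} {y : K} (hy : α y = y) (ho : Odd (orderOf y)) : y ∈ SqFx α := by
  obtain ⟨m, hm⟩ := ho
  apply Subgroup.subset_closure
  refine ⟨y ^ (m + 1), by rw [map_pow, hy], ?_⟩
  have h1 : y ^ (2 * m + 1) = 1 := by rw [← hm, pow_orderOf_eq_one]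
  calc y = y ^ (2 * m + 1) * y := by rw [h1, one_mul]
    _ = y ^ (m + 1) * y ^ (m + 1) := by rw [← pow_succ, ← pow_add]; congr 1; omega

theorem mem_Fx_of_mem_SqFx {α : MulAut K} {y : K} (hy : y ∈ SqFx α) : α y = y := by
  have h : SqFx α ≤ Fx α := by
    rw [SqFx, closure_le]
    rintro _ ⟨y, hy, rfl⟩
    change α (y * y) = y * y
    rw [map_mul, hy]
  exact h hy

/-- commutators of fixed points lie in `SqFx` -/
theorem commutator_le_SqFx (α : MulAut K) : ⁅Fx α, Fx α⁆ ≤ SqFx α := by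
  rw [commutator_le]
  intro a ha b hb
  have ha' : α a = a := ha
  have hb' : α b = b := hb
  have h1 : a * b * (a * b) ∈ SqFx α := Subgroup.subset_closure ⟨a * b, by rw [map_mul, ha', hb'], rfl⟩
  have h2 : b * b ∈ SqFx α := Subgroup.subset_closure ⟨b, hb', rfl⟩
  have h3 : (b⁻¹ * a⁻¹ * b) * (b⁻¹ * a⁻¹ * b) ∈ SqFx α :=
    Subgroup.subset_closure ⟨_, by rw [map_mul, map_mul, map_inv, map_inv, ha', hb'], rfl⟩
  have h4 := mul_mem (mul_mem h1 h3) (inv_mem h2)
  have h5 : a * b * (a * b) * (b⁻¹ * a⁻¹ * b * (b⁻¹ * a⁻¹ * b)) * (b * b)⁻¹ = ⁅a, b⁆ := by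
    rw [commutatorElement_def]; group
  rwa [h5] at h4

/-- K-fact for the outer involutions. -/
def OutSq (z : K) : Prop := ∀ α : MulAut K, α * α = 1 → (∀ k, α ≠ MulAut.conj k) →
  (∀ c ∈ center K, c * c = z → α c = c⁻¹) →
  ∃ x ∈ SqFx α, x = z ∨ (x ≠ 1 ∧ ∃ q, α q = q * x)

end Facts

variable {G : Type u} [Group G]

/-- the frame -/
structure Fr (K : Subgroup G) (q z : G) : Prop extends Start0 K z q where
  zK : z ∈ K

/-- `g ∈ KR`. -/
def KR (K : Subgroup G) (q : G) (g : G) : Prop := ∃ k ∈ K, ∃ r ∈ zpowers q, g = k * r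

namespace Fr

variable {K : Subgroup G} {q z : G}

theorem kr (F : Fr K q z) {k r : G} (hk : k ∈ K) (hr : r ∈ zpowers q) : k * r = r * k := F.QK r hr k hk

theorem rr (_ : Fr K q z) {r s : G} (hr : r ∈ zpowers q) (hs : s ∈ zpowers q) : r * s = s * r := by
  obtain ⟨a, rfl⟩ := mem_zpowers_iff.1 hr
  obtain ⟨b, rfl⟩ := mem_zpowers_iff.1 hs
  rw [← zpow_add, ← zpow_add, add_comm]

theorem nrm (F : Fr K q z) {h : G} (hh : h * z = z * h) {k : G} (hk : k ∈ K) : h * k * h⁻¹ ∈ K :=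
  (mem_normalizer_iff.1 (F.nK h hh) k).1 hk

theorem inv_comm {h z : G} (hh : h * z = z * h) : h⁻¹ * z = z * h⁻¹ := by
  rw [inv_mul_eq_iff_eq_mul, ← mul_assoc, hh, mul_inv_cancel_right]

theorem mul_comm' {a b z : G} (ha : a * z = z * a) (hb : b * z = z * b) : a * b * z = z * (a * b) := by
  rw [mul_assoc, hb, ← mul_assoc, ha, mul_assoc]

theorem conj_comm {a b z : G} (ha : a * z = z * a) (hb : b * z = z * b) : a * b * a⁻¹ * z = z * (a * b * a⁻¹) :=
  mul_comm' (mul_comm' ha hb) (inv_comm ha)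

/-- `C(z)` normalizes `R`. -/
theorem nrmR (F : Fr K q z) {h : G} (hh : h * z = z * h) {r : G} (hr : r ∈ zpowers q) :
    h * r * h⁻¹ ∈ zpowers q := by
  apply F.cK
  · exact conj_comm hh (F.Qt r hr)
  · intro x hx
    have h1 : h⁻¹ * x * h ∈ K := by
      have := F.nrm (inv_comm hh) hx
      rwa [inv_inv] at this
    have h2 := F.kr h1 hr
    calc x * (h * r * h⁻¹) = h * ((h⁻¹ * x * h) * r) * h⁻¹ := by group
      _ = h * (r * (h⁻¹ * x * h)) * h⁻¹ := by rw [h2]
      _ = h * r * h⁻¹ * x := by group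

/-- The automorphism of `K` induced by an element of `C(z)`. -/
def act (F : Fr K q z) {h : G} (hh : h * z = z * h) : MulAut ↥K where
  toFun k := ⟨h * k * h⁻¹, F.nrm hh k.2⟩
  invFun k := ⟨h⁻¹ * k * h, by
    have := F.nrm (inv_comm hh) k.2
    rwa [inv_inv] at this⟩
  left_inv k := Subtype.ext (by
    change h⁻¹ * (h * k * h⁻¹) * h = k
    group)
  right_inv k := Subtype.ext (by
    change h * (h⁻¹ * k * h) * h⁻¹ = k
    group)
  map_mul' a b := Subtype.ext (by
    change h * (a * b) * h⁻¹ = h * a * h⁻¹ * (h * b * h⁻¹)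
    group)

theorem act_apply (F : Fr K q z) {h : G} (hh : h * z = z * h) (k : ↥K) :
    ((F.act hh k : ↥K) : G) = h * k * h⁻¹ := rfl

/-- an element of `C(z)` inducing an inner automorphism lies in `KR` -/
theorem KR_of_inner (F : Fr K q z) {h : G} (hh : h * z = z * h) {k : ↥K} (hk : F.act hh = MulAut.conj k) :
    KR K q h := by
  refine ⟨k, k.2, (k : G)⁻¹ * h, ?_, by group⟩
  have hkz : (k : G) * z = z * k := F.Kt k k.2
  apply F.cK
  · exact mul_comm' (inv_comm hkz) hh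
  · intro x hx
    have h1 : h * x * h⁻¹ = k * x * (k : G)⁻¹ := by
      have h0 := congrArg Subtype.val (DFunLike.congr_fun hk ⟨x, hx⟩)
      exact h0
    have h2 : h * x = k * x * (k : G)⁻¹ * h := by rw [← h1]; group
    calc x * ((k : G)⁻¹ * h) = (k : G)⁻¹ * (k * x * (k : G)⁻¹ * h) := by group
      _ = (k : G)⁻¹ * (h * x) := by rw [h2]
      _ = (k : G)⁻¹ * h * x := by group

theorem outer (F : Fr K q z) {h : G} (hh : h * z = z * h) (hn : ¬ KR K q h) (k : ↥K) :
    F.act hh ≠ MulAut.conj k := fun h1 => hn (F.KR_of_inner hh h1)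

theorem KR_comm (F : Fr K q z) {g : G} (hg : KR K q g) : g * z = z * g := by
  obtain ⟨k, hk, r, hr, rfl⟩ := hg
  exact mul_comm' (F.Kt k hk) (F.Qt r hr)

theorem KR_mul (F : Fr K q z) {a b : G} (ha : KR K q a) (hb : KR K q b) : KR K q (a * b) := by
  obtain ⟨k, hk, r, hr, rfl⟩ := ha
  obtain ⟨l, hl, s, hs, rfl⟩ := hb
  refine ⟨k * l, K.mul_mem hk hl, r * s, mul_mem hr hs, ?_⟩
  calc k * r * (l * s) = k * (r * l) * s := by group
    _ = k * (l * r) * s := by rw [F.kr hl hr]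
    _ = k * l * (r * s) := by group

theorem KR_inv (F : Fr K q z) {a : G} (ha : KR K q a) : KR K q a⁻¹ := by
  obtain ⟨k, hk, r, hr, rfl⟩ := ha
  refine ⟨k⁻¹, K.inv_mem hk, r⁻¹, inv_mem hr, ?_⟩
  rw [F.kr hk hr, mul_inv_rev]

theorem KR_K {k : G} (hk : k ∈ K) : KR K q k := ⟨k, hk, 1, one_mem _, by rw [mul_one]⟩

theorem KR_R {r : G} (hr : r ∈ zpowers q) : KR K q r := ⟨1, K.one_mem, r, hr, by rw [one_mul]⟩

/-- `KR` as a subgroup -/
def M (F : Fr K q z) : Subgroup G where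
  carrier := {g | KR K q g}
  one_mem' := KR_K K.one_mem
  mul_mem' := fun ha hb => F.KR_mul ha hb
  inv_mem' := fun ha => F.KR_inv ha

theorem mem_M (F : Fr K q z) {g : G} : g ∈ F.M ↔ KR K q g := Iff.rfl

/-- `|C(z) : KR| ≤ 2` -/
theorem two (F : Fr K q z) (hO : OutTwo ↥K) {a b : G} (ha : a * z = z * a) (hb : b * z = z * b)
    (ha' : ¬ KR K q a) (hb' : ¬ KR K q b) : KR K q (a * b) := by
  obtain ⟨k, hk⟩ := hO (F.act ha) (F.act hb) (F.outer ha ha') (F.outer hb hb')
  apply F.KR_of_inner (mul_comm' ha hb) (k := k)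
  rw [← hk]
  ext x
  change a * b * x * (a * b)⁻¹ = a * (b * x * b⁻¹) * a⁻¹
  group

theorem sq (F : Fr K q z) (hO : OutTwo ↥K) {a : G} (ha : a * z = z * a) : KR K q (a * a) := by
  by_cases h : KR K q a
  · exact F.KR_mul h h
  · exact F.two hO ha ha h h

theorem commu (F : Fr K q z) (hO : OutTwo ↥K) {a b : G} (ha : a * z = z * a) (hb : b * z = z * b) :
    KR K q ⁅a, b⁆ := by
  have h1 := F.sq hO (mul_comm' ha hb)
  have h2 := F.sq hO ha
  have h3 := F.sq hO hb
  -- modulo `M` every square is trivial, so `[a,b] = (ab)² (b⁻¹ a b)⁻² b⁻² `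
  have h4 : KR K q ((b⁻¹ * a⁻¹ * b) * (b⁻¹ * a⁻¹ * b)) := by
    apply F.sq hO
    have := conj_comm (inv_comm hb) (inv_comm ha)
    rwa [inv_inv] at this
  have h5 := F.KR_mul (F.KR_mul h1 h4) (F.KR_inv h3)
  have h6 : a * b * (a * b) * (b⁻¹ * a⁻¹ * b * (b⁻¹ * a⁻¹ * b)) * (b * b)⁻¹ = ⁅a, b⁆ := by
    rw [commutatorElement_def]; group
  rwa [h6] at h5

theorem conj_sq (F : Fr K q z) (g : G) : g * z * g⁻¹ * (g * z * g⁻¹) = 1 := by
  calc g * z * g⁻¹ * (g * z * g⁻¹) = g * (z * z) * g⁻¹ := by group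
    _ = 1 := by rw [F.tt]; group

theorem conj_ne_one (F : Fr K q z) (g : G) : g * z * g⁻¹ ≠ 1 := by
  intro h
  apply F.t1
  calc z = g⁻¹ * (g * z * g⁻¹) * g := by group
    _ = 1 := by rw [h]; group

/-! ### The outer involutions -/

/-- conjugation by `g` maps the squares of `C(z) ∩ C(g⁻¹ z g)` into `KR` -/
theorem sq_conj (F : Fr K q z) (hO : OutTwo ↥K) {g x : G}
    (hx : x ∈ closure {w | ∃ y ∈ Ce z ⊓ Ce (g⁻¹ * z * g), w = y * y}) : KR K q (g * x * g⁻¹) := by
  have h2 : closure {w | ∃ y ∈ Ce z ⊓ Ce (g⁻¹ * z * g), w = y * y} ≤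
      F.M.comap (MulAut.conj g).toMonoidHom := by
    rw [closure_le]
    rintro _ ⟨a, ⟨-, ha2⟩, rfl⟩
    change KR K q (g * (a * a) * g⁻¹)
    have h3 : g * (a * a) * g⁻¹ = g * a * g⁻¹ * (g * a * g⁻¹) := by group
    rw [h3]
    apply F.sq hO
    change a * (g⁻¹ * z * g) = g⁻¹ * z * g * a at ha2
    calc g * a * g⁻¹ * z = g * (a * (g⁻¹ * z * g)) * g⁻¹ := by group
      _ = g * (g⁻¹ * z * g * a) * g⁻¹ := by rw [ha2]
      _ = z * (g * a * g⁻¹) := by group
  exact h2 hx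

/-- If `z^G ∩ KR = {z}`, then no outer `e ∈ z^G ∩ C(z)` is conjugate under `K` to `e x`, `1 ≠ x` a product of squares
in `C(z) ∩ C(e)`. -/
theorem thmB (F : Fr K q z) (hO : OutTwo ↥K) (hin : ∀ g : G, KR K q (g * z * g⁻¹) → g * z * g⁻¹ = z)
    {g x r : G} (hx : x ∈ closure {w | ∃ y ∈ Ce z ⊓ Ce (g⁻¹ * z * g), w = y * y}) (hx1 : x ≠ 1)
    (hr : g⁻¹ * z * g * r * (g⁻¹ * z * g)⁻¹ = r * x) : False := by
  have hxe2 : x * (g⁻¹ * z * g) = g⁻¹ * z * g * x := by
    have h2 : closure {w | ∃ y ∈ Ce z ⊓ Ce (g⁻¹ * z * g), w = y * y} ≤ Ce (g⁻¹ * z * g) := by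
      rw [closure_le]
      rintro _ ⟨a, ⟨-, ha2⟩, rfl⟩
      exact mul_mem ha2 ha2
    exact h2 hx
  -- `g x g⁻¹ ∈ KR`
  have h1 := F.sq_conj hO hx
  -- `z (g x g⁻¹)` is a conjugate of `z`
  have h2 : r⁻¹ * (g⁻¹ * z * g) * r = g⁻¹ * z * g * x := by
    rw [mul_inv_eq_iff_eq_mul] at hr
    rw [mul_assoc, hr, ← hxe2]
    group
  have h3 : (g * r⁻¹ * g⁻¹) * z * (g * r⁻¹ * g⁻¹)⁻¹ = z * (g * x * g⁻¹) := by
    calc (g * r⁻¹ * g⁻¹) * z * (g * r⁻¹ * g⁻¹)⁻¹ = g * (r⁻¹ * (g⁻¹ * z * g) * r) * g⁻¹ := by group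
      _ = g * (g⁻¹ * z * g * x) * g⁻¹ := by rw [h2]
      _ = _ := by group
  have h4 := hin (g * r⁻¹ * g⁻¹) (by rw [h3]; exact F.KR_mul (KR_K F.zK) h1)
  rw [h3, mul_eq_left] at h4
  apply hx1
  calc x = g⁻¹ * (g * x * g⁻¹) * g := by group
    _ = 1 := by rw [h4]; group

/-- an element of `R` with square `z` is `c` or `c⁻¹` -/
theorem root_eq [Finite G] (F : Fr K q z) {c d : G} (hc : c ∈ zpowers q) (hcc : c * c = z) (hd : d ∈ zpowers q)
    (hdd : d * d = z) : d = c ∨ d = c * z := by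
  have h1 : (c⁻¹ * d) * (c⁻¹ * d) = 1 := by
    have h2 : d * c⁻¹ = c⁻¹ * d := F.rr hd (inv_mem hc)
    calc (c⁻¹ * d) * (c⁻¹ * d) = c⁻¹ * (d * c⁻¹) * d := by group
      _ = c⁻¹ * (c⁻¹ * d) * d := by rw [h2]
      _ = (c * c)⁻¹ * (d * d) := by group
      _ = 1 := by rw [hcc, hdd]; group
  by_cases h3 : c⁻¹ * d = 1
  · left
    exact (inv_mul_eq_one.1 h3).symm
  · right
    have h4 := F.uniq (mul_mem (inv_mem hc) hd) h1 h3
    rw [← h4]; group

/-- The end of D9. -/
theorem false_of_inner [Finite G] (F : Fr K q z) (hO : OutTwo ↥K)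
    (hin : ∀ g : G, KR K q (g * z * g⁻¹) → g * z * g⁻¹ = z)
    (hII : OutSq (⟨z, F.zK⟩ : ↥K)) (hne : ∃ g : G, g * z * g⁻¹ ≠ z ∧ g * z * g⁻¹ * z = z * (g * z * g⁻¹)) :
    False := by
  obtain ⟨g, hez, hcomm⟩ := hne
  have hnK : ¬ KR K q (g * z * g⁻¹) := fun h => hez (hin g h)
  -- `e' = g⁻¹ z g`
  have hcomm' : g⁻¹ * z * g * z = z * (g⁻¹ * z * g) := by
    calc g⁻¹ * z * g * z = g⁻¹ * (z * (g * z * g⁻¹)) * g := by group
      _ = g⁻¹ * (g * z * g⁻¹ * z) * g := by rw [hcomm]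
      _ = _ := by group
  have hez' : g⁻¹ * z * g ≠ z := by
    intro h1
    apply hez
    calc g * z * g⁻¹ = g * (g⁻¹ * z * g) * g⁻¹ := by rw [h1]
      _ = z := by group
  have hnK' : ¬ KR K q (g⁻¹ * z * g) := by
    intro h
    have h1 := hin g⁻¹ (by rwa [inv_inv])
    rw [inv_inv] at h1
    exact hez' h1
  have hee' : g⁻¹ * z * g * (g⁻¹ * z * g) = 1 := by simpa using F.conj_sq g⁻¹
  have hα : F.act hcomm' * F.act hcomm' = 1 := by
    ext k
    change g⁻¹ * z * g * (g⁻¹ * z * g * k * (g⁻¹ * z * g)⁻¹) * (g⁻¹ * z * g)⁻¹ = k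
    calc g⁻¹ * z * g * (g⁻¹ * z * g * k * (g⁻¹ * z * g)⁻¹) * (g⁻¹ * z * g)⁻¹
        = (g⁻¹ * z * g * (g⁻¹ * z * g)) * k * (g⁻¹ * z * g * (g⁻¹ * z * g))⁻¹ := by group
      _ = k := by rw [hee']; group
  obtain ⟨x, hx, hx'⟩ := hII _ hα (F.outer hcomm' hnK') (by
    intro c hc hcc
    have hcc' : (c : G) * c = z := congrArg Subtype.val hcc
    have hcK : ∀ y ∈ K, y * (c : G) = c * y := fun y hy =>
      congrArg Subtype.val (mem_center_iff.1 hc ⟨y, hy⟩)
    have hcR : (c : G) ∈ zpowers q := F.cK c (F.Kt c c.2) hcK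
    apply Subtype.ext
    change g⁻¹ * z * g * c * (g⁻¹ * z * g)⁻¹ = (c : G)⁻¹
    have h1 := F.nrmR hcomm' hcR
    have h2 : g⁻¹ * z * g * c * (g⁻¹ * z * g)⁻¹ * (g⁻¹ * z * g * c * (g⁻¹ * z * g)⁻¹) = z := by
      calc g⁻¹ * z * g * c * (g⁻¹ * z * g)⁻¹ * (g⁻¹ * z * g * c * (g⁻¹ * z * g)⁻¹)
          = g⁻¹ * z * g * (c * c) * (g⁻¹ * z * g)⁻¹ := by group
        _ = g⁻¹ * z * g * z * (g⁻¹ * z * g)⁻¹ := by rw [hcc']
        _ = z := by rw [hcomm']; group
    rcases F.root_eq hcR hcc' h1 h2 with h3 | h3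
    · -- `e'` commutes with `c`, so `e = (g c g⁻¹)²`
      exfalso
      apply hnK
      have h4 : (c : G) * (g⁻¹ * z * g) = g⁻¹ * z * g * c := by
        rw [mul_inv_eq_iff_eq_mul] at h3
        exact h3.symm
      have h5 : g * c * g⁻¹ * z = z * (g * c * g⁻¹) := by
        calc g * c * g⁻¹ * z = g * (c * (g⁻¹ * z * g)) * g⁻¹ := by group
          _ = g * (g⁻¹ * z * g * c) * g⁻¹ := by rw [h4]
          _ = z * (g * c * g⁻¹) := by group
      have h6 := F.sq hO h5
      have h7 : g * c * g⁻¹ * (g * c * g⁻¹) = g * z * g⁻¹ := by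
        calc g * c * g⁻¹ * (g * c * g⁻¹) = g * (c * c) * g⁻¹ := by group
          _ = _ := by rw [hcc']
      rwa [h7] at h6
    · rw [h3]
      have h4 : (c : G) * (c * z) = 1 := by
        rw [← mul_assoc, hcc', F.tt]
      exact eq_inv_of_mul_eq_one_right h4)
  have hsub : (SqFx (F.act hcomm')).map K.subtype ≤
      closure {w | ∃ y ∈ Ce z ⊓ Ce (g⁻¹ * z * g), w = y * y} := by
    rw [SqFx, MonoidHom.map_closure]
    apply Subgroup.closure_mono
    rintro _ ⟨_, ⟨y, hy, rfl⟩, rfl⟩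
    refine ⟨y, ⟨F.Kt y y.2, ?_⟩, rfl⟩
    have h2 : g⁻¹ * z * g * (y : G) * (g⁻¹ * z * g)⁻¹ = y := congrArg Subtype.val hy
    change (y : G) * (g⁻¹ * z * g) = g⁻¹ * z * g * y
    rw [mul_inv_eq_iff_eq_mul] at h2
    exact h2.symm
  rcases hx' with rfl | ⟨hx1, r, hr⟩
  · exact hnK (F.sq_conj hO (hsub ⟨_, hx, rfl⟩))
  · exact F.thmB hO hin (hsub ⟨x, hx, rfl⟩) (fun h => hx1 (Subtype.ext h)) (congrArg Subtype.val hr)

/-! ### The inner involutions, `|R| ≥ 4` -/

/-- `R ∩ gRg⁻¹ = 1` if `g z g⁻¹ ≠ z`. -/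
theorem inf_eq [Finite G] (F : Fr K q z) {g : G} (hez : g * z * g⁻¹ ≠ z) {u : G} (hu : u ∈ zpowers q)
    (hu' : g⁻¹ * u * g ∈ zpowers q) : u = 1 := by
  by_contra hu1
  have hp : IsPGroup 2 ↥(zpowers u) := F.pQ.to_le (zpowers_le.2 hu)
  obtain ⟨t, ht, htt, ht1⟩ := exists_involution hu1 hp
  have h1 : t = z := F.uniq ((zpowers_le.2 hu) ht) htt ht1
  have h2 : g⁻¹ * t * g ∈ zpowers q := by
    obtain ⟨n, rfl⟩ := mem_zpowers_iff.1 ht
    have h3 : g⁻¹ * u ^ n * g = (g⁻¹ * u * g) ^ n := by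
      have := conj_zpow (a := g⁻¹) (b := u) (i := n)
      rw [inv_inv] at this
      exact this.symm
    rw [h3]
    exact zpow_mem hu' n
  have h3 : g⁻¹ * t * g = z := by
    apply F.uniq h2
    · calc g⁻¹ * t * g * (g⁻¹ * t * g) = g⁻¹ * (t * t) * g := by group
        _ = 1 := by rw [htt]; group
    · intro h4
      apply ht1
      calc t = g * (g⁻¹ * t * g) * g⁻¹ := by group
        _ = 1 := by rw [h4]; group
  rw [h1] at h3
  apply hez
  calc g * z * g⁻¹ = g * (g⁻¹ * z * g) * g⁻¹ := by rw [h3]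
    _ = z := by group

/-- The element `cₑ = g c g⁻¹`, `c ∈ R`, `c² = z`, for an inner `e = g z g⁻¹`. -/
theorem root [Finite G] (F : Fr K q z) (hO : OutTwo ↥K) {c : G} (hc : c ∈ zpowers q)
    (hcc : c * c = z) {g : G} (he : KR K q (g * z * g⁻¹)) (hez : g * z * g⁻¹ ≠ z) :
    g * c * g⁻¹ * z = z * (g * c * g⁻¹) ∧ g * c * g⁻¹ * c = c * (g * c * g⁻¹) ∧
    (∀ y ∈ K, y * y * y = 1 → y * (g * z * g⁻¹) = g * z * g⁻¹ * y →
      g * c * g⁻¹ * y = y * (g * c * g⁻¹)) ∧
    ∃ k : ↥K, ∃ r ∈ zpowers q, g * z * g⁻¹ = k * r ∧ k * k ∈ center ↥K ∧ k ∉ center ↥K := by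
  have he0 := he
  obtain ⟨k, hk, r, hr, hkr⟩ := he
  have hee := F.conj_sq g
  -- `k² ∈ Z(K)`, `k ∉ Z(K)`
  have hkk : k * k = r⁻¹ * r⁻¹ := by
    have h1 : k * r * (k * r) = 1 := by rw [← hkr]; exact hee
    have h2 : k * k * (r * r) = 1 := by
      calc k * k * (r * r) = k * (k * r) * r := by group
        _ = k * (r * k) * r := by rw [F.kr hk hr]
        _ = k * r * (k * r) := by group
        _ = 1 := h1
    calc k * k = k * k * (r * r) * (r⁻¹ * r⁻¹) := by group
      _ = r⁻¹ * r⁻¹ := by rw [h2, one_mul]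
  have hkc : (⟨k, hk⟩ : ↥K) * ⟨k, hk⟩ ∈ center ↥K := by
    rw [mem_center_iff]
    intro y
    apply Subtype.ext
    change (y : G) * (k * k) = k * k * y
    rw [hkk]
    exact F.QK _ (mul_mem (inv_mem hr) (inv_mem hr)) y y.2
  have hkn : (⟨k, hk⟩ : ↥K) ∉ center ↥K := by
    intro h
    have h1 : k ∈ zpowers q := F.cK k (F.Kt k hk) fun x hx =>
      congrArg Subtype.val (mem_center_iff.1 h ⟨x, hx⟩)
    apply hez
    apply F.uniq
    · rw [hkr]; exact mul_mem h1 hr
    · exact hee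
    · exact F.conj_ne_one g
  -- `c` commutes with `e`
  have hce : c * (g * z * g⁻¹) = g * z * g⁻¹ * c := by
    rw [hkr]
    calc c * (k * r) = (c * k) * r := by group
      _ = (k * c) * r := by rw [F.kr hk hc]
      _ = k * (c * r) := by group
      _ = k * (r * c) := by rw [F.rr hc hr]
      _ = k * r * c := by group
  have hc1 : g⁻¹ * c * g * z = z * (g⁻¹ * c * g) := by
    calc g⁻¹ * c * g * z = g⁻¹ * (c * (g * z * g⁻¹)) * g := by group
      _ = g⁻¹ * (g * z * g⁻¹ * c) * g := by rw [hce]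
      _ = _ := by group
  have hc2 := F.sq hO hc1
  have hc3 : g⁻¹ * c * g * (g⁻¹ * c * g) = g⁻¹ * z * g := by
    calc g⁻¹ * c * g * (g⁻¹ * c * g) = g⁻¹ * (c * c) * g := by group
      _ = _ := by rw [hcc]
  rw [hc3] at hc2
  have hc4 : g⁻¹ * z * g * c = c * (g⁻¹ * z * g) := by
    obtain ⟨k', hk', r', hr', h'⟩ := hc2
    rw [h']
    calc k' * r' * c = k' * (r' * c) := by group
      _ = k' * (c * r') := by rw [F.rr hr' hc]
      _ = (k' * c) * r' := by group
      _ = (c * k') * r' := by rw [F.kr hk' hc]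
      _ = c * (k' * r') := by group
  have hc5 : g * c * g⁻¹ * z = z * (g * c * g⁻¹) := by
    calc g * c * g⁻¹ * z = g * (c * (g⁻¹ * z * g)) * g⁻¹ := by group
      _ = g * (g⁻¹ * z * g * c) * g⁻¹ := by rw [hc4]
      _ = _ := by group
  refine ⟨hc5, ?_, ?_, ⟨k, hk⟩, r, hr, hkr, hkc, hkn⟩
  · -- `[cₑ, c] ∈ R ∩ gRg⁻¹`
    have h1 : g * c * g⁻¹ * c * (g * c * g⁻¹)⁻¹ * c⁻¹ = 1 := by
      apply F.inf_eq hez
      · exact mul_mem (F.nrmR hc5 hc) (inv_mem hc)
      · have h2 : g⁻¹ * (g * c * g⁻¹ * c * (g * c * g⁻¹)⁻¹ * c⁻¹) * g =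
            c * ((g⁻¹ * c * g) * c⁻¹ * (g⁻¹ * c * g)⁻¹) := by group
        rw [h2]
        exact mul_mem hc (F.nrmR hc1 (inv_mem hc))
    rw [mul_inv_eq_one, mul_inv_eq_iff_eq_mul] at h1
    exact h1
  · intro y hy hy3' hye
    -- `y' = g⁻¹ y g ∈ C(z)`
    have hyz : g⁻¹ * y * g * z = z * (g⁻¹ * y * g) := by
      calc g⁻¹ * y * g * z = g⁻¹ * (y * (g * z * g⁻¹)) * g := by group
        _ = g⁻¹ * (g * z * g⁻¹ * y) * g := by rw [hye]
        _ = _ := by group
    set y' := g⁻¹ * y * g with hy'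
    have h4 := F.nrmR hyz hc
    have h5 : y' * c * y'⁻¹ * (y' * c * y'⁻¹) = z := by
      calc y' * c * y'⁻¹ * (y' * c * y'⁻¹) = y' * (c * c) * y'⁻¹ := by group
        _ = y' * z * y'⁻¹ := by rw [hcc]
        _ = z := by rw [hyz]; group
    have h6 : y' * c * y'⁻¹ = c := by
      rcases F.root_eq hc hcc h4 h5 with h7 | h7
      · exact h7
      · exfalso
        have h8 : y' * y' * y' = 1 := by
          calc y' * y' * y' = g⁻¹ * (y * y * y) * g := by rw [hy']; group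
            _ = 1 := by rw [hy3']; group
        have h9 : y' * (c * z) * y'⁻¹ = c := by
          calc y' * (c * z) * y'⁻¹ = (y' * c * y'⁻¹) * (y' * z * y'⁻¹) := by group
            _ = c * z * (y' * z * y'⁻¹) := by rw [h7]
            _ = c * z * z := by rw [hyz, mul_inv_cancel_right]
            _ = c := by rw [mul_assoc, F.tt, mul_one]
        have h10 : y' * y' * y' * c * (y' * y' * y')⁻¹ = c * z := by
          calc y' * y' * y' * c * (y' * y' * y')⁻¹ = y' * (y' * (y' * c * y'⁻¹) * y'⁻¹) * y'⁻¹ := by group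
            _ = y' * (y' * (c * z) * y'⁻¹) * y'⁻¹ := by rw [h7]
            _ = y' * c * y'⁻¹ := by rw [h9]
            _ = c * z := h7
        rw [h8] at h10
        apply F.t1
        have h11 : c = c * z := by simpa using h10
        exact (mul_eq_left.1 h11.symm)
    have h8 : y' * c = c * y' := by rw [mul_inv_eq_iff_eq_mul] at h6; exact h6
    calc g * c * g⁻¹ * y = g * (c * y') * g⁻¹ := by rw [hy']; group
      _ = g * (y' * c) * g⁻¹ := by rw [h8]
      _ = y * (g * c * g⁻¹) := by rw [hy']; group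

/-- `|R| ≥ 4`: `z^G ∩ KR = {z}` from `OrdThree`. -/
theorem inner_big [Finite G] (F : Fr K q z) (hO : OutTwo ↥K) (h3 : OrdThree ↥K) {c : G} (hc : c ∈ zpowers q)
    (hcc : c * c = z) (g : G) (he : KR K q (g * z * g⁻¹)) : g * z * g⁻¹ = z := by
  by_contra hez
  obtain ⟨hc5, -, h7, k, r, hr, hkr, hkc, hkn⟩ := F.root hO hc hcc he hez
  apply h3 k hkc hkn (F.act hc5)
  · intro y hy3 hyk
    apply Subtype.ext
    change g * c * g⁻¹ * (y : G) * (g * c * g⁻¹)⁻¹ = y
    have hyk' : (y : G) * k = k * y := congrArg Subtype.val hyk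
    have hy3' : (y : G) * y * y = 1 := by
      have := congrArg Subtype.val hy3
      calc (y : G) * y * y = ((y ^ 3 : ↥K) : G) := by
            rw [Subgroup.coe_pow, pow_succ, pow_two]
        _ = 1 := this
    have hye : (y : G) * (g * z * g⁻¹) = g * z * g⁻¹ * y := by
      rw [hkr]
      calc (y : G) * (k * r) = (y * k) * r := by group
        _ = (k * y) * r := by rw [hyk']
        _ = k * (y * r) := by group
        _ = k * (r * y) := by rw [F.kr y.2 hr]
        _ = k * r * y := by group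
    rw [h7 y y.2 hy3' hye]; group
  · intro x
    apply Subtype.ext
    change g * c * g⁻¹ * (g * c * g⁻¹ * (x : G) * (g * c * g⁻¹)⁻¹) * (g * c * g⁻¹)⁻¹ = k * x * (k : G)⁻¹
    have h4 : g * c * g⁻¹ * (g * c * g⁻¹) = k * r := by
      rw [← hkr, ← hcc]; group
    calc g * c * g⁻¹ * (g * c * g⁻¹ * (x : G) * (g * c * g⁻¹)⁻¹) * (g * c * g⁻¹)⁻¹
        = (g * c * g⁻¹ * (g * c * g⁻¹)) * x * (g * c * g⁻¹ * (g * c * g⁻¹))⁻¹ := by group
      _ = k * r * x * (k * r)⁻¹ := by rw [h4]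
      _ = k * (r * x) * r⁻¹ * (k : G)⁻¹ := by group
      _ = k * (x * r) * r⁻¹ * (k : G)⁻¹ := by rw [F.kr x.2 hr]
      _ = k * x * (k : G)⁻¹ := by group

/-- `|R| ≥ 4`, `c ∈ K`: `z^G ∩ KR = {z}` from: every involution of `K/Z(K)` commutes with an element of order 3, no
elements of order 12 in `K/Z(K)`, the outer automorphisms move `c`. -/
theorem inner_four [Finite G] (F : Fr K q z) (hO : OutTwo ↥K) (hT : Three ↥K) (h12 : NoTwelve ↥K)
    {c : ↥K} (hc : (c : G) ∈ zpowers q) (hcc : (c : G) * c = z)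
    (hinv : ∀ α : MulAut ↥K, α c = c → ∃ k, α = MulAut.conj k) (g : G)
    (he : KR K q (g * z * g⁻¹)) : g * z * g⁻¹ = z := by
  by_contra hez
  obtain ⟨hc5, hc6, h7, k, r, hr, hkr, hkc, hkn⟩ := F.root hO hc hcc he hez
  obtain ⟨y, hy3, hy1, hyk⟩ := hT k hkc hkn
  have hyk' : (y : G) * k = k * y := congrArg Subtype.val hyk
  have hy3' : (y : G) * y * y = 1 := by
    have := congrArg Subtype.val hy3
    calc (y : G) * y * y = ((y ^ 3 : ↥K) : G) := by
          rw [Subgroup.coe_pow, pow_succ, pow_two]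
      _ = 1 := this
  have hye : (y : G) * (g * z * g⁻¹) = g * z * g⁻¹ * y := by
    rw [hkr]
    calc (y : G) * (k * r) = (y * k) * r := by group
      _ = (k * y) * r := by rw [hyk']
      _ = k * (y * r) := by group
      _ = k * (r * y) := by rw [F.kr y.2 hr]
      _ = k * r * y := by group
  have h8 := h7 y y.2 hy3' hye
  have hce : g * c * g⁻¹ * (g * c * g⁻¹) = g * z * g⁻¹ := by
    rw [← hcc]; group
  -- `cₑ ∈ KR`
  have h9 : KR K q (g * c * g⁻¹) := by
    obtain ⟨l, hl⟩ := hinv (F.act hc5) (Subtype.ext (by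
      change g * c * g⁻¹ * (c : G) * (g * c * g⁻¹)⁻¹ = c
      rw [hc6]; group))
    exact F.KR_of_inner hc5 hl
  obtain ⟨l, hl, s, hs, hls⟩ := h9
  have hyl : y * ⟨l, hl⟩ = ⟨l, hl⟩ * y := by
    apply Subtype.ext
    change (y : G) * l = l * y
    have h10 : l = g * c * g⁻¹ * s⁻¹ := by rw [hls]; group
    rw [h10]
    calc (y : G) * (g * c * g⁻¹ * s⁻¹) = (y * (g * c * g⁻¹)) * s⁻¹ := by group
      _ = (g * c * g⁻¹ * y) * s⁻¹ := by rw [h8]
      _ = g * c * g⁻¹ * (y * s⁻¹) := by group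
      _ = g * c * g⁻¹ * (s⁻¹ * y) := by rw [F.kr y.2 (inv_mem hs)]
      _ = g * c * g⁻¹ * s⁻¹ * y := by group
  have hll : l * l = g * z * g⁻¹ * (s⁻¹ * s⁻¹) := by
    have h10 : l * s * (l * s) = g * z * g⁻¹ := by rw [← hls]; exact hce
    rw [← h10]
    calc l * l = l * (l * s) * s⁻¹ := by group
      _ = l * (s * l) * s⁻¹ := by rw [F.kr hl hs]
      _ = l * s * l * (s * (s⁻¹ * s⁻¹)) := by group
      _ = l * s * (l * s) * (s⁻¹ * s⁻¹) := by group
  have hl4 : (⟨l, hl⟩ : ↥K) ^ 4 ∈ center ↥K := by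
    have h10 : (l * l) * (l * l) = (s⁻¹ * s⁻¹) * (s⁻¹ * s⁻¹) := by
      have h11 : s⁻¹ * s⁻¹ * (g * z * g⁻¹) = g * z * g⁻¹ * (s⁻¹ * s⁻¹) := by
        rw [hkr]
        have h12 := mul_mem (inv_mem hs) (inv_mem hs)
        calc s⁻¹ * s⁻¹ * (k * r) = (s⁻¹ * s⁻¹ * k) * r := by group
          _ = (k * (s⁻¹ * s⁻¹)) * r := by rw [F.kr k.2 h12]
          _ = k * ((s⁻¹ * s⁻¹) * r) := by group
          _ = k * (r * (s⁻¹ * s⁻¹)) := by rw [F.rr h12 hr]
          _ = k * r * (s⁻¹ * s⁻¹) := by group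
      rw [hll]
      calc g * z * g⁻¹ * (s⁻¹ * s⁻¹) * (g * z * g⁻¹ * (s⁻¹ * s⁻¹))
          = g * z * g⁻¹ * (s⁻¹ * s⁻¹ * (g * z * g⁻¹)) * (s⁻¹ * s⁻¹) := by group
        _ = g * z * g⁻¹ * (g * z * g⁻¹ * (s⁻¹ * s⁻¹)) * (s⁻¹ * s⁻¹) := by rw [h11]
        _ = (g * z * g⁻¹ * (g * z * g⁻¹)) * ((s⁻¹ * s⁻¹) * (s⁻¹ * s⁻¹)) := by group
        _ = _ := by rw [F.conj_sq g, one_mul]
    rw [mem_center_iff]
    intro x
    apply Subtype.ext
    have h13 : (((⟨l, hl⟩ : ↥K) ^ 4 : ↥K) : G) = (l * l) * (l * l) := by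
      rw [Subgroup.coe_pow]
      change l ^ 4 = l * l * (l * l)
      rw [show (4 : ℕ) = 2 + 2 from rfl, pow_add, pow_two]
    change (x : G) * (((⟨l, hl⟩ : ↥K) ^ 4 : ↥K) : G) = (((⟨l, hl⟩ : ↥K) ^ 4 : ↥K) : G) * x
    rw [h13, h10]
    have h12 := mul_mem (inv_mem hs) (inv_mem hs)
    exact F.kr x.2 (mul_mem h12 h12)
  have hl2 := h12 _ y hy3 hy1 hyl hl4
  -- `e = l² s² ∈ R`
  have h13 : l * l ∈ zpowers q := by
    apply F.cK _ (F.Kt _ (K.mul_mem hl hl))
    intro x hx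
    have := congrArg Subtype.val (mem_center_iff.1 hl2 ⟨x, hx⟩)
    exact this
  apply hez
  apply F.uniq
  · have : g * z * g⁻¹ = l * l * (s * s) := by rw [hll]; group
    rw [this]
    exact mul_mem h13 (mul_mem hs hs)
  · exact F.conj_sq g
  · exact F.conj_ne_one g

/-- **`|R| ≥ 4`**, ending 1. -/
theorem false_big [Finite G] (F : Fr K q z) (hO : OutTwo ↥K) (h3 : OrdThree ↥K)
    (hII : OutSq (⟨z, F.zK⟩ : ↥K)) {c : G} (hc : c ∈ zpowers q) (hcc : c * c = z)
    (hne : ∃ g : G, g * z * g⁻¹ ≠ z ∧ g * z * g⁻¹ * z = z * (g * z * g⁻¹)) : False :=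
  F.false_of_inner hO (F.inner_big hO h3 hc hcc) hII hne

/-- **`|R| ≥ 4`**, ending 2, `c ∈ K`. -/
theorem false_four [Finite G] (F : Fr K q z) (hO : OutTwo ↥K) (hT : Three ↥K) (h12 : NoTwelve ↥K)
    (hII : OutSq (⟨z, F.zK⟩ : ↥K)) {c : ↥K} (hc : (c : G) ∈ zpowers q) (hcc : (c : G) * c = z)
    (hinv : ∀ α : MulAut ↥K, α c = c → ∃ k, α = MulAut.conj k)
    (hne : ∃ g : G, g * z * g⁻¹ ≠ z ∧ g * z * g⁻¹ * z = z * (g * z * g⁻¹)) : False :=
  F.false_of_inner hO (F.inner_four hO hT h12 hc hcc hinv) hII hne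

end Fr

/-! ### From the interface -/

open Cfsg.Agent.OddHalf.Iface

/-- The frame. -/
theorem exists_fr (C : Ctx G) {K : Subgroup G} (S : Std0 G K) (hcyc : Cyc K) (hz : center ↥K ≠ ⊥) :
    ∃ z q : G, Fr K q z := by
  have := C.fin
  obtain ⟨z, q, h⟩ := exists_start0 C S hcyc
  refine ⟨z, q, h, ?_⟩
  obtain ⟨u, hu1⟩ := Subgroup.ne_bot_iff_exists_ne_one.1 hz
  have hu := u.2
  have hp : IsPGroup 2 ↥(zpowers ((u : ↥K) : G)) := by
    have h1 : IsPGroup 2 ↥(zpowers (u : ↥K)) := S.z2.to_le (zpowers_le.2 u.2)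
    have h2 := h1.map K.subtype
    rwa [MonoidHom.map_zpowers] at h2
  have hu1' : ((u : ↥K) : G) ≠ 1 := fun h => hu1 (Subtype.ext (Subtype.ext h))
  obtain ⟨t, ht, htt, ht1⟩ := exists_involution hu1' hp
  have huK : ((u : ↥K) : G) ∈ K := (u : ↥K).2
  have htK : t ∈ K := (zpowers_le.2 huK) ht
  have htc : ∀ x ∈ K, x * t = t * x := by
    intro x hx
    obtain ⟨n, rfl⟩ := mem_zpowers_iff.1 ht
    have h1 : x * ((u : ↥K) : G) = (u : ↥K) * x := congrArg Subtype.val (mem_center_iff.1 hu ⟨x, hx⟩)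
    exact (show Commute x ((u : ↥K) : G) from h1).zpow_right n
  have h1 := h.cK t (h.Kt t htK) htc
  have h2 := h.uniq h1 htt ht1
  rwa [← h2]

end Cfsg.Agent.OddHalf.D9.CovTwo

end

-- merged: Cfsg.Agent.OddHalf.D9.M22.Lift
section

/-!
# D9: perfect central extensions `π : K → X` with kernel `Z(K)`, a 2-group (helper322)

Facts on `X` and `MulAut X` carried to `K` and `MulAut K`: `outTwo`, `ordThree`.
-/

set_option autoImplicit false

namespace Cfsg.Agent.OddHalf.D9.M22.Lift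

open Subgroup
open Cfsg.Agent.OddHalf.D9.CovTwo

universe u v

/-- `π : K → X` onto with kernel `Z(K)`, a 2-group, `K` perfect -/
structure Cov {K : Type u} {X : Type v} [Group K] [Group X] (π : K →* X) : Prop where
  surj : Function.Surjective π
  ker : ∀ k, π k = 1 ↔ k ∈ center K
  perf : commutator K = ⊤
  two : ∀ c ∈ center K, ∃ n : ℕ, c ^ 2 ^ n = 1

/-- `OrdThree` for the quotient -/
def OrdThreeX (X : Type v) [Group X] : Prop := ∀ t : X, t * t = 1 → t ≠ 1 → ∀ β : MulAut X,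
  (∀ y : X, y ^ 3 = 1 → y * t = t * y → β y = y) → (∀ x, β (β x) = t * x * t⁻¹) → False

namespace Cov

variable {K : Type u} {X : Type v} [Group K] [Group X] {π : K →* X}

theorem cen {c : K} (hc : c ∈ center K) (k : K) : c * k = k * c := (mem_center_iff.1 hc k).symm

theorem eq_mul (C : Cov π) {k l : K} (h : π k = π l) : ∃ c ∈ center K, k = l * c := by
  refine ⟨l⁻¹ * k, (C.ker _).1 ?_, by group⟩
  rw [map_mul, map_inv, h, inv_mul_cancel]

theorem map_center {c : K} (hc : c ∈ center K) (α : MulAut K) : α c ∈ center K := by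
  rw [mem_center_iff]
  intro y
  obtain ⟨x, rfl⟩ := α.surjective y
  rw [← map_mul, ← map_mul, ← cen hc]

theorem pi_congr (C : Cov π) (α : MulAut K) {k l : K} (h : π k = π l) : π (α k) = π (α l) := by
  obtain ⟨c, hc, rfl⟩ := C.eq_mul h
  rw [map_mul, map_mul, (C.ker _).2 (map_center hc α), mul_one]

/-- a perfect group has no nontrivial homomorphism into its centre -/
theorem hom_eq_one (C : Cov π) (f : K → K) (hc : ∀ k, f k ∈ center K) (hf : ∀ k l, f (k * l) = f k * f l)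
    (k : K) : f k = 1 := by
  obtain ⟨φ, hφ⟩ : ∃ φ : K →* ↥(center K), ∀ k, (φ k : K) = f k :=
    ⟨MonoidHom.mk' (fun k => ⟨f k, hc k⟩) (fun k l => Subtype.ext (hf k l)), fun _ => rfl⟩
  have h0 : commutator K ≤ φ.ker := by
    rw [commutator_def, commutator_le]
    intro a _ b _
    rw [MonoidHom.mem_ker, map_commutatorElement, commutatorElement_eq_one_iff_mul_comm]
    apply Subtype.ext
    exact cen (φ a).2 _
  rw [C.perf] at h0
  rw [← hφ, MonoidHom.mem_ker.1 (h0 (mem_top k))]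
  rfl

/-- an automorphism trivial on `K/Z(K)` is trivial -/
theorem aut_eq_one (C : Cov π) {α : MulAut K} (h : ∀ k, π (α k) = π k) : α = 1 := by
  have hc : ∀ k, k⁻¹ * α k ∈ center K := fun k => (C.ker _).1 (by
    rw [map_mul, map_inv, h, inv_mul_cancel])
  have h1 := C.hom_eq_one (fun k => k⁻¹ * α k) hc (by
    intro k l
    rw [map_mul]
    calc (k * l)⁻¹ * (α k * α l) = l⁻¹ * (k⁻¹ * α k * α l) := by group
      _ = l⁻¹ * (α l * (k⁻¹ * α k)) := by rw [cen (hc k)]
      _ = l⁻¹ * α l * (k⁻¹ * α k) := by group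
      _ = k⁻¹ * α k * (l⁻¹ * α l) := by rw [cen (hc k)])
  ext k
  have h3 := h1 k
  rw [inv_mul_eq_one] at h3
  exact h3.symm

/-- the induced automorphism of `X` -/
theorem exists_ind (C : Cov π) (α : MulAut K) : ∃ β : MulAut X, ∀ k, π (α k) = β (π k) := by
  let s := Function.surjInv C.surj
  have hs : ∀ x, π (s x) = x := Function.surjInv_eq C.surj
  refine ⟨{ toFun := fun x => π (α (s x)), invFun := fun x => π (α.symm (s x)),
            left_inv := ?_, right_inv := ?_, map_mul' := ?_ }, ?_⟩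
  · intro x
    change π (α.symm (s (π (α (s x))))) = x
    have h := C.pi_congr α.symm (hs (π (α (s x))))
    rw [h, MulEquiv.symm_apply_apply, hs]
  · intro x
    change π (α (s (π (α.symm (s x))))) = x
    have h := C.pi_congr α (hs (π (α.symm (s x))))
    rw [h, MulEquiv.apply_symm_apply, hs]
  · intro x y
    rw [← map_mul, ← map_mul]
    apply C.pi_congr α
    rw [map_mul, hs, hs, hs]
  · intro k
    change π (α k) = π (α (s (π k)))
    exact C.pi_congr α (hs _).symm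

/-- `α` is inner if it is inner on `X` -/
theorem inner_of (C : Cov π) {α : MulAut K} {x : X} (h : ∀ k, π (α k) = x * π k * x⁻¹) :
    ∃ k, α = MulAut.conj k := by
  obtain ⟨k, rfl⟩ := C.surj x
  refine ⟨k, ?_⟩
  have h1 : (MulAut.conj k)⁻¹ * α = 1 := by
    apply C.aut_eq_one
    intro l
    have h2 : ((MulAut.conj k)⁻¹ * α) l = k⁻¹ * α l * k := by
      rw [← map_inv, MulAut.mul_apply, MulAut.conj_apply, inv_inv]
    rw [h2, map_mul, map_mul, h, map_inv]
    group
  rw [inv_mul_eq_one] at h1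
  exact h1.symm

/-- an inner automorphism is inner on `X` -/
theorem ind_conj {α : MulAut K} {β : MulAut X} (C : Cov π) (hβ : ∀ k, π (α k) = β (π k)) {k : K}
    (h : α = MulAut.conj k) : β = MulAut.conj (π k) := by
  ext x
  obtain ⟨l, rfl⟩ := C.surj x
  rw [← hβ, h, MulAut.conj_apply, MulAut.conj_apply, map_mul, map_mul, map_inv]

theorem outer_ind (C : Cov π) {α : MulAut K} {β : MulAut X} (hβ : ∀ k, π (α k) = β (π k))
    (ho : ∀ k, α ≠ MulAut.conj k) (x : X) : β ≠ MulAut.conj x := by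
  rintro rfl
  obtain ⟨k, hk⟩ := C.inner_of (x := x) (fun k => by rw [hβ, MulAut.conj_apply])
  exact ho k hk

theorem outTwo (C : Cov π) (h : OutTwo X) : OutTwo K := by
  intro α β hα hβ
  obtain ⟨α', hα'⟩ := C.exists_ind α
  obtain ⟨β', hβ'⟩ := C.exists_ind β
  obtain ⟨x, hx⟩ := h α' β' (C.outer_ind hα' hα) (C.outer_ind hβ' hβ)
  apply C.inner_of (x := x)
  intro k
  rw [MulAut.mul_apply, hα', hβ', ← MulAut.mul_apply, hx, MulAut.conj_apply]

/-- lifts of elements of order 3 -/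
theorem lift3 (C : Cov π) {x : X} (hx : x ^ 3 = 1) : ∃ y, π y = x ∧ y ^ 3 = 1 := by
  obtain ⟨y, rfl⟩ := C.surj x
  have h1 : y ^ 3 ∈ center K := (C.ker _).1 (by rw [map_pow, hx])
  obtain ⟨n, hn⟩ := C.two _ h1
  refine ⟨y ^ (4 ^ n), ?_, ?_⟩
  · rw [map_pow]
    have h2 : 4 ^ n % 3 = 1 := by
      rw [Nat.pow_mod]
      norm_num
    conv_lhs => rw [← Nat.div_add_mod (4 ^ n) 3, h2, pow_add, pow_mul, hx, one_pow, one_mul, pow_one]
  · rw [← pow_mul, mul_comm, pow_mul, show (4 : ℕ) ^ n = 2 ^ n * 2 ^ n by rw [← mul_pow]; norm_num, pow_mul,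
      hn, one_pow]

theorem comm3 (C : Cov π) {y k : K} (hy : y ^ 3 = 1) (h : π y * π k = π k * π y) : y * k = k * y := by
  have h0 : π (y * k) = π (k * y) := by rw [map_mul, map_mul, h]
  obtain ⟨c, hc, hcy⟩ := C.eq_mul h0
  -- `y k = k y c`
  have h1 : ∀ n : ℕ, y ^ n * k = k * y ^ n * c ^ n := by
    intro n
    induction n with
    | zero => group
    | succ n ih =>
      have h2 : c ^ n * y = y * c ^ n := cen (pow_mem hc n) y
      calc y ^ (n + 1) * k = y * (y ^ n * k) := by rw [pow_succ']; group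
        _ = (y * k) * y ^ n * c ^ n := by rw [ih]; group
        _ = k * y * (c * y ^ n) * c ^ n := by rw [hcy]; group
        _ = k * y * (y ^ n * c) * c ^ n := by rw [cen hc]
        _ = k * y ^ (n + 1) * c ^ (n + 1) := by rw [pow_succ', pow_succ']; group
  have h3 := h1 3
  rw [hy, one_mul, mul_one] at h3
  have h4 : c ^ 3 = 1 := (mul_eq_left.1 h3.symm)
  obtain ⟨n, hn⟩ := C.two c hc
  have h5 : c = 1 := by
    have h6 : orderOf c ∣ 3 := orderOf_dvd_of_pow_eq_one h4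
    have h7 : orderOf c ∣ 2 ^ n := orderOf_dvd_of_pow_eq_one hn
    have h8 : Nat.Coprime 3 (2 ^ n) := Nat.Coprime.pow_right _ (by norm_num)
    exact orderOf_eq_one_iff.1 (Nat.eq_one_of_dvd_coprimes h8 h6 h7)
  rw [hcy, h5, mul_one]

theorem ordThree (C : Cov π) (h : OrdThreeX X) : OrdThree K := by
  intro k hkk hk α hα hα2
  obtain ⟨β, hβ⟩ := C.exists_ind α
  apply h (π k) (by rw [← map_mul]; exact (C.ker _).2 hkk) (fun h1 => hk ((C.ker _).1 h1)) β
  · intro y hy hyk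
    obtain ⟨y', rfl, hy'⟩ := C.lift3 hy
    rw [← hβ, hα y' hy' (C.comm3 hy' hyk)]
  · intro x
    obtain ⟨l, rfl⟩ := C.surj x
    rw [← hβ, ← hβ, hα2, map_mul, map_mul, map_inv]

end Cov

end Cfsg.Agent.OddHalf.D9.M22.Lift

end

-- merged: Cfsg.Agent.OddHalf.D9.M22.CovFour
section

/-!
# D9: `K = 4.M22` (helper322)

`EData X E a b`: the facts on `X = M22`; `π : K → X` a perfect central extension, `Z(K) = ⟨r⟩` of order 4.

* `Four.sq_cases` : `k² ∈ Z(K)` implies `k² ∈ {1, r²}`;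
* `Four.nonab` : the inverse image of `E` is not abelian;
* `Four.outSq` : `OutSq r²`.
-/

set_option autoImplicit false

namespace Cfsg.Agent.OddHalf.D9.M22.CovFour

open Subgroup
open scoped Pointwise
open Cfsg.Agent.OddHalf.D9.CovTwo Cfsg.Agent.OddHalf.D9.M22.Lift

universe u v

/-- The facts on `M22`. -/
structure EData (X : Type v) [Group X] (E : Subgroup X) (a b : X) : Prop where
  sq : ∀ x ∈ E, x * x = 1
  aE : ∀ x ∈ E, a * x * a⁻¹ ∈ E
  bE : ∀ x ∈ E, b * x * b⁻¹ ∈ E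
  aa : a * a = 1
  bb : b * b = 1
  ab : (a * b) ^ 4 = 1
  rot : ∀ i : ℕ, (a * b) ^ i ∈ E → 4 ∣ i
  refl : ∀ i : ℕ, (a * b) ^ i * a ∉ E
  odd : ∀ S : Subgroup X, E ≤ S → a ∈ S → b ∈ S → IsPGroup 2 ↥S → Odd S.index
  four : ∃ x ∈ E, ∃ y ∈ E, x ≠ 1 ∧ y ≠ 1 ∧ x ≠ y
  one : ∀ x y : X, x * x = 1 → x ≠ 1 → y * y = 1 → y ≠ 1 → IsConj x y
  outer : ∀ β : MulAut X, β * β = 1 → (∀ x, β ≠ MulAut.conj x) →
    ∃ g : X, ∀ x ∈ E, β (g * x * g⁻¹) = g * x * g⁻¹
  ord3 : OrdThreeX X
  out2 : OutTwo X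

/-- the transfer argument -/
theorem transfer_false {K : Type u} [Group K] [Finite K] (hperf : commutator K = ⊤) {P L : Subgroup K} {r : K}
    (hr : r ∈ center K) (hodd : Odd P.index) (hrP : r ∈ P) (hrL : r ∉ L) (hrr : r * r ∈ L)
    (hcov : ∀ p ∈ P, p ∈ L ∨ p * r ∈ L) : False := by
  classical
  have hc : ∀ k, r * k = k * r := fun k => (mem_center_iff.1 hr k).symm
  have key : ∀ p ∈ P, p ∉ L → ∀ q ∈ P, (p * q ∈ L ↔ q ∉ L) := by
    intro p hp hpL q hq
    have hpr : p * r ∈ L := (hcov p hp).resolve_left hpL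
    constructor
    · intro h1 h2
      exact hpL ((L.mul_mem_cancel_right h2).1 h1)
    · intro h1
      have hqr : q * r ∈ L := (hcov q hq).resolve_left h1
      have h2 := L.mul_mem hpr hqr
      have h3 : p * r * (q * r) = p * q * (r * r) := by
        calc p * r * (q * r) = p * (r * q) * r := by group
          _ = p * (q * r) * r := by rw [hc]
          _ = p * q * (r * r) := by group
      rw [h3] at h2
      exact (L.mul_mem_cancel_right hrr).1 h2
  obtain ⟨φ, hφ⟩ : ∃ φ : ↥P →* ℤˣ, ∀ p, φ p = if (p : K) ∈ L then 1 else -1 := by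
    refine ⟨MonoidHom.mk' (fun p => if (p : K) ∈ L then 1 else -1) ?_, fun _ => rfl⟩
    intro p q
    rw [Subgroup.coe_mul]
    by_cases hp : (p : K) ∈ L
    · by_cases hq : (q : K) ∈ L
      · rw [if_pos hp, if_pos hq, if_pos (L.mul_mem hp hq), mul_one]
      · rw [if_pos hp, if_neg hq, if_neg (fun h => hq ((L.mul_mem_cancel_left hp).1 h)), one_mul]
    · by_cases hq : (q : K) ∈ L
      · rw [if_neg hp, if_pos hq, if_neg (fun h => hp ((L.mul_mem_cancel_right hq).1 h)), mul_one]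
      · rw [if_neg hp, if_neg hq, if_pos ((key p p.2 hp q q.2).2 hq)]
        rfl
  have h1 : commutator K ≤ φ.transfer.ker := Abelianization.commutator_subset_ker _
  rw [hperf] at h1
  have h2 : φ.transfer r = 1 := h1 (mem_top r)
  have hkey : ∀ (k : ℕ) (g₀ : K), g₀⁻¹ * r ^ k * g₀ ∈ P → g₀⁻¹ * r ^ k * g₀ = r ^ k := by
    intro k g₀ _
    have h3 : r ^ k * g₀ = g₀ * r ^ k := (mem_center_iff.1 (pow_mem hr k) g₀).symm
    rw [mul_assoc, h3, inv_mul_cancel_left]
  rw [MonoidHom.transfer_eq_pow φ r hkey] at h2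
  have h3 : φ ⟨r ^ P.index, MonoidHom.transfer_eq_pow_aux r hkey⟩ = φ ⟨r, hrP⟩ ^ P.index := by
    rw [← map_pow]
    rfl
  rw [h3, hφ, if_neg hrL, hodd.neg_one_pow] at h2
  exact absurd h2 (by decide)

/-- `Z(K) = ⟨r⟩` of order 4 -/
structure Four {K : Type u} [Group K] (r : K) : Prop where
  mem : r ∈ center K
  cases : ∀ c ∈ center K, c = 1 ∨ c = r ∨ c = r * r ∨ c = r * r * r
  r4 : r * r * (r * r) = 1
  r2 : r * r ≠ 1

/-- elements of a group generated by two involutions -/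
theorem mem_dihedral {G : Type*} [Group G] {a b : G} (ha : a * a = 1) (hb : b * b = 1)
    {n : ℕ} (hn : 0 < n) (hab : (a * b) ^ n = 1) {x : G} (hx : x ∈ closure ({a, b} : Set G)) :
    ∃ i : ℕ, x = (a * b) ^ i ∨ x = (a * b) ^ i * a := by
  have hai : a⁻¹ = a := inv_eq_of_mul_eq_one_left ha
  have hbi : b⁻¹ = b := inv_eq_of_mul_eq_one_left hb
  -- `a (ab)^i = (ab)^{(n-1) i} a`
  have h1 : ∀ i : ℕ, (a * b) ^ i * a = a * (b * a) ^ i := by
    intro i
    induction i with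
    | zero => simp
    | succ i ih =>
      calc (a * b) ^ (i + 1) * a = (a * b) * ((a * b) ^ i * a) := by rw [pow_succ']; group
        _ = (a * b) * (a * (b * a) ^ i) := by rw [ih]
        _ = a * (b * a) ^ (i + 1) := by rw [pow_succ' (b * a)]; simp only [mul_assoc]
  have h2 : b * a = (a * b) ^ (n - 1) := by
    have h3 : (a * b) * (a * b) ^ (n - 1) = 1 := by
      rw [← pow_succ', Nat.sub_add_cancel hn, hab]
    have h4 : (a * b)⁻¹ = b * a := by rw [mul_inv_rev, hai, hbi]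
    rw [← h4]
    exact inv_eq_of_mul_eq_one_right h3
  induction hx using closure_induction'' with
  | one => exact ⟨0, Or.inl (pow_zero _).symm⟩
  | mem x hx =>
    rcases hx with rfl | rfl
    · exact ⟨0, Or.inr (by simp)⟩
    · refine ⟨n - 1, Or.inr ?_⟩
      rw [← h2, mul_assoc, ha, mul_one]
  | inv_mem x hx =>
    rcases hx with rfl | rfl
    · exact ⟨0, Or.inr (by rw [hai]; simp)⟩
    · refine ⟨n - 1, Or.inr ?_⟩
      rw [hbi, ← h2, mul_assoc, ha, mul_one]
  | mul x y _ _ hx hy =>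
    obtain ⟨i, hi⟩ := hx
    obtain ⟨j, hj⟩ := hy
    have h5 : ∀ j : ℕ, a * (a * b) ^ j = ((a * b) ^ (n - 1)) ^ j * a := by
      intro j
      rw [← h2]
      induction j with
      | zero => simp
      | succ j ih =>
        calc a * (a * b) ^ (j + 1) = a * (a * b) ^ j * (a * b) := by rw [pow_succ]; group
          _ = (b * a) ^ j * a * (a * b) := by rw [ih]
          _ = (b * a) ^ j * (a * a) * b := by group
          _ = (b * a) ^ j * b := by rw [ha, mul_one]
          _ = (b * a) ^ j * b * (a * a) := by rw [ha, mul_one]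
          _ = (b * a) ^ (j + 1) * a := by rw [pow_succ (b * a)]; simp only [mul_assoc]
    rcases hi with rfl | rfl
    · rcases hj with rfl | rfl
      · exact ⟨i + j, Or.inl (pow_add _ _ _).symm⟩
      · exact ⟨i + j, Or.inr (by rw [pow_add, mul_assoc])⟩
    · rcases hj with rfl | rfl
      · refine ⟨i + (n - 1) * j, Or.inr ?_⟩
        rw [mul_assoc, h5, ← pow_mul, pow_add, mul_assoc]
      · refine ⟨i + (n - 1) * j, Or.inl ?_⟩
        calc (a * b) ^ i * a * ((a * b) ^ j * a) = (a * b) ^ i * (a * (a * b) ^ j) * a := by group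
          _ = (a * b) ^ i * (((a * b) ^ (n - 1)) ^ j * a) * a := by rw [h5]
          _ = (a * b) ^ i * ((a * b) ^ (n - 1)) ^ j * (a * a) := by group
          _ = (a * b) ^ (i + (n - 1) * j) := by rw [ha, mul_one, ← pow_mul, pow_add]

namespace Four

variable {K : Type u} [Group K] {X : Type v} [Group X] {π : K →* X} {E : Subgroup X} {a b : X} {r : K}

theorem rc (R : Four r) (k : K) : r * k = k * r := Cov.cen R.mem k

theorem cen4 (R : Four r) {c : K} (hc : c ∈ center K) : c * c * (c * c) = 1 := by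
  have h4 := R.r4
  rcases R.cases c hc with rfl | rfl | rfl | rfl
  · simp
  · exact h4
  · rw [h4, one_mul]
  · calc r * r * r * (r * r * r) * (r * r * r * (r * r * r))
        = (r * r * (r * r)) * (r * r * (r * r)) * (r * r * (r * r)) := by group
      _ = 1 := by rw [h4]; group

theorem cen2 (R : Four r) {c : K} (hc : c ∈ center K) (h : c * c = 1) : c = 1 ∨ c = r * r := by
  rcases R.cases c hc with rfl | rfl | rfl | rfl
  · exact Or.inl rfl
  · exact absurd h R.r2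
  · exact Or.inr rfl
  · exfalso
    apply R.r2
    have h4 := R.r4
    have h5 : r * r * (r * r) * (r * r) = r * r * r * (r * r * r) := by simp only [mul_assoc]
    rwa [h4, h, one_mul] at h5

/-- an element of the centre whose square is not 1 has square `r²` -/
theorem cen_sq (R : Four r) {c : K} (hc : c ∈ center K) : c * c = 1 ∨ c * c = r * r := by
  apply R.cen2 (mul_mem hc hc) (R.cen4 hc)

/-- lifts of commuting elements of `X` -/
theorem comm_lift (C : Cov π) {x y : K} (h : π x * π y = π y * π x) : ∃ c ∈ center K, x * y = y * x * c :=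
  C.eq_mul (by rw [map_mul, map_mul, h])

/-- no element has square `r` or `r⁻¹` -/
theorem sq_cases (C : Cov π) (D : EData X E a b) (R : Four r) {k : K} (h : k * k ∈ center K) :
    k * k = 1 ∨ k * k = r * r := by
  apply R.cen2 h
  by_contra hne
  have hP0 : k * k * (k * k) = r * r := (R.cen_sq h).resolve_left hne
  have hk : k ∉ center K := fun hk => hne (R.cen4 hk)
  have hk1 : π k ≠ 1 := fun h1 => hk ((C.ker _).1 h1)
  have hk2 : π k * π k = 1 := by rw [← map_mul]; exact (C.ker _).2 h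
  -- every lift of an involution has the same property
  have hP : ∀ l : K, π l * π l = 1 → π l ≠ 1 → l * l * (l * l) = r * r := by
    intro l h1 h2
    obtain ⟨x, hx⟩ := isConj_iff.1 (D.one _ _ hk2 hk1 h1 h2)
    obtain ⟨g, rfl⟩ := C.surj x
    obtain ⟨c, hc, hl⟩ := C.eq_mul (k := l) (l := g * k * g⁻¹) (by
      rw [map_mul, map_mul, map_inv, hx])
    have hkk : ∀ y, k * k * y = y * (k * k) := Cov.cen h
    have h3 : l * l = k * k * (c * c) := by
      rw [hl]
      calc g * k * g⁻¹ * c * (g * k * g⁻¹ * c) = g * k * g⁻¹ * (c * (g * k * g⁻¹)) * c := by group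
        _ = g * k * g⁻¹ * ((g * k * g⁻¹) * c) * c := by rw [Cov.cen hc]
        _ = g * (k * k * g⁻¹) * (c * c) := by group
        _ = g * (g⁻¹ * (k * k)) * (c * c) := by rw [hkk]
        _ = k * k * (c * c) := by group
    have hcc := R.cen4 hc
    rw [h3]
    have h4 : ∀ y, c * c * y = y * (c * c) := Cov.cen (mul_mem hc hc)
    calc k * k * (c * c) * (k * k * (c * c)) = k * k * (c * c * (k * k)) * (c * c) := by group
      _ = k * k * (k * k * (c * c)) * (c * c) := by rw [h4]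
      _ = k * k * (k * k) * (c * c * (c * c)) := by group
      _ = r * r := by rw [hP0, hcc, mul_one]
  obtain ⟨x, hx, y, hy, hx1, hy1, hxy⟩ := D.four
  have hxy' : x * y = y * x := by
    have h1 := D.sq _ (mul_mem hx hy)
    have h2 := D.sq _ hx
    have h3 := D.sq _ hy
    calc x * y = x * (x * y * (x * y)) * y := by rw [h1, mul_one]
      _ = (x * x) * y * x * (y * y) := by group
      _ = y * x := by rw [h2, h3]; group
  obtain ⟨x', rfl⟩ := C.surj x
  obtain ⟨y', rfl⟩ := C.surj y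
  obtain ⟨c, hc, hcxy⟩ := comm_lift C hxy'
  have hPx := hP x' (D.sq _ hx) hx1
  have hPy := hP y' (D.sq _ hy) hy1
  have hPw := hP (x' * y') (by rw [map_mul]; exact D.sq _ (mul_mem hx hy)) (by
    rw [map_mul]
    intro h1
    apply hxy
    have h2 := D.sq _ hy
    exact mul_right_cancel (h1.trans h2.symm))
  have hx2 : x' * x' ∈ center K := (C.ker _).1 (by rw [map_mul]; exact D.sq _ hx)
  have hy2 : y' * y' ∈ center K := (C.ker _).1 (by rw [map_mul]; exact D.sq _ hy)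
  have hcc : ∀ k, c * k = k * c := Cov.cen hc
  -- `c² = 1`
  have hc2 : c * c = 1 := by
    have h1 : x' * x' * y' = y' * (x' * x') * (c * c) := by
      calc x' * x' * y' = x' * (x' * y') := by group
        _ = x' * (y' * x' * c) := by rw [hcxy]
        _ = (x' * y') * x' * c := by group
        _ = (y' * x' * c) * x' * c := by rw [hcxy]
        _ = y' * x' * (c * x') * c := by group
        _ = y' * x' * (x' * c) * c := by rw [hcc]
        _ = y' * (x' * x') * (c * c) := by group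
    rw [Cov.cen hx2 y'] at h1
    exact (mul_eq_left.1 h1.symm)
  have hyx : y' * x' = x' * y' * c := by
    rw [hcxy, mul_assoc (y' * x'), hc2, mul_one]
  have h1 : x' * y' * (x' * y') = x' * x' * (y' * y') * c := by
    calc x' * y' * (x' * y') = x' * (y' * x') * y' := by group
      _ = x' * (x' * y' * c) * y' := by rw [hyx]
      _ = x' * x' * y' * (c * y') := by group
      _ = x' * x' * y' * (y' * c) := by rw [hcc]
      _ = x' * x' * (y' * y') * c := by group
  have h2 : x' * y' * (x' * y') * (x' * y' * (x' * y')) = 1 := by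
    rw [h1]
    have e1 : ∀ k, x' * x' * k = k * (x' * x') := Cov.cen hx2
    have e2 : ∀ k, y' * y' * k = k * (y' * y') := Cov.cen hy2
    calc x' * x' * (y' * y') * c * (x' * x' * (y' * y') * c)
        = x' * x' * (y' * y') * (c * (x' * x' * (y' * y'))) * c := by group
      _ = x' * x' * (y' * y') * ((x' * x' * (y' * y')) * c) * c := by rw [hcc]
      _ = x' * x' * ((y' * y') * (x' * x')) * (y' * y') * (c * c) := by group
      _ = x' * x' * ((x' * x') * (y' * y')) * (y' * y') * (c * c) := by rw [e2]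
      _ = (x' * x' * (x' * x')) * ((y' * y') * (y' * y')) * (c * c) := by group
      _ = r * r * (r * r) := by rw [hPx, hPy, hc2, mul_one]
      _ = 1 := R.r4
  rw [hPw] at h2
  exact R.r2 h2

/-- involutions lift to involutions -/
theorem exists_inv (C : Cov π) (D : EData X E a b) (R : Four r) {x : X} (hx : x * x = 1) :
    ∃ f, π f = x ∧ f * f = 1 := by
  obtain ⟨k, rfl⟩ := C.surj x
  rcases R.sq_cases C D (k := k) ((C.ker _).1 (by rw [map_mul, hx])) with h | h
  · exact ⟨k, rfl, h⟩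
  · refine ⟨k * r, ?_, ?_⟩
    · rw [map_mul, (C.ker r).2 R.mem, mul_one]
    · calc k * r * (k * r) = k * (r * k) * r := by group
        _ = k * (k * r) * r := by rw [R.rc]
        _ = k * k * (r * r) := by group
        _ = 1 := by rw [h, R.r4]

/-- the inverse image of `E` is not abelian -/
theorem nonab [Finite K] (C : Cov π) (D : EData X E a b) (R : Four r) :
    ∃ x y : K, π x ∈ E ∧ π y ∈ E ∧ x * y ≠ y * x := by
  by_contra hcon
  push Not at hcon
  -- `F₀`
  let F : Subgroup K :=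
    { carrier := {f | π f ∈ E ∧ f * f = 1}
      one_mem' := ⟨by rw [map_one]; exact E.one_mem, one_mul 1⟩
      mul_mem' := by
        rintro f g ⟨hf, hf2⟩ ⟨hg, hg2⟩
        refine ⟨by rw [map_mul]; exact mul_mem hf hg, ?_⟩
        calc f * g * (f * g) = f * (g * f) * g := by group
          _ = f * (f * g) * g := by rw [hcon g f hg hf]
          _ = f * f * (g * g) := by group
          _ = 1 := by rw [hf2, hg2, one_mul]
      inv_mem' := by
        rintro f ⟨hf, hf2⟩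
        refine ⟨by rw [map_inv]; exact inv_mem hf, ?_⟩
        rw [← mul_inv_rev, hf2, inv_one] }
  have hF : ∀ f, f ∈ F ↔ π f ∈ E ∧ f * f = 1 := fun f => Iff.rfl
  obtain ⟨â, hâ, hâ2⟩ := R.exists_inv C D D.aa
  obtain ⟨c, hc, hc2⟩ := R.exists_inv C D D.bb
  have hai : a⁻¹ = a := inv_eq_of_mul_eq_one_left D.aa
  have hbi : b⁻¹ = b := inv_eq_of_mul_eq_one_left D.bb
  have hz := R.r4
  -- `(âĉ)⁴`
  have hac4 : (â * c) ^ 4 = 1 ∨ (â * c) ^ 4 = r * r := by
    have h1 : (â * c) ^ 4 = (â * c) ^ 2 * (â * c) ^ 2 := by rw [← pow_add]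
    rw [h1]
    apply R.sq_cases C D
    apply (C.ker _).1
    rw [← h1, map_pow, map_mul, hâ, hc, D.ab]
  have hac8 : (â * c) ^ 8 = 1 := by
    have h1 : (â * c) ^ 8 = (â * c) ^ 4 * (â * c) ^ 4 := by rw [← pow_add]
    rw [h1]
    rcases hac4 with h | h <;> rw [h]
    · rw [one_mul]
    · exact hz
  let W : Subgroup K := closure {â, c}
  have hWel : ∀ w ∈ W, ∃ i : ℕ, w = (â * c) ^ i ∨ w = (â * c) ^ i * â := fun w hw =>
    mem_dihedral hâ2 hc2 (by norm_num) hac8 hw
  -- `W` normalizes `F₀`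
  have hn1 : ∀ (g : K) (x : X), π g = x → (∀ y ∈ E, x * y * x⁻¹ ∈ E) → ∀ f ∈ F, g * f * g⁻¹ ∈ F := by
    rintro g x rfl hx f ⟨hf, hf2⟩
    refine ⟨by rw [map_mul, map_mul, map_inv]; exact hx _ hf, ?_⟩
    calc g * f * g⁻¹ * (g * f * g⁻¹) = g * (f * f) * g⁻¹ := by group
      _ = 1 := by rw [hf2]; group
  have hâi : â⁻¹ = â := inv_eq_of_mul_eq_one_left hâ2
  have hci : c⁻¹ = c := inv_eq_of_mul_eq_one_left hc2
  have hWN : W ≤ normalizer (F : Set K) := by
    rw [le_normalizer_iff]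
    intro w hw
    induction hw using closure_induction'' with
    | one => intro f hf; simpa using hf
    | mem x hx =>
      rcases hx with rfl | rfl
      · exact hn1 _ a hâ D.aE
      · exact hn1 _ b hc D.bE
    | inv_mem x hx =>
      rcases hx with rfl | rfl
      · rw [hâi]; exact hn1 _ a hâ D.aE
      · rw [hci]; exact hn1 _ b hc D.bE
    | mul x y _ _ hx hy =>
      intro f hf
      have h1 := hx _ (hy f hf)
      have h2 : x * y * f * (x * y)⁻¹ = x * (y * f * y⁻¹) * x⁻¹ := by group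
      rwa [h2]
  let L : Subgroup K := W ⊔ F
  have hL : ∀ x, x ∈ L ↔ ∃ w ∈ W, ∃ f ∈ F, w * f = x := by
    intro x
    have h1 := coe_mul_of_left_le_normalizer_right W F hWN
    change x ∈ ((W ⊔ F : Subgroup K) : Set K) ↔ _
    rw [h1]
    exact Set.mem_mul
  have hzF : r * r ∈ F := by
    refine ⟨?_, hz⟩
    rw [(C.ker _).2 (mul_mem R.mem R.mem)]
    exact E.one_mem
  have hzL : r * r ∈ L := (le_sup_right : F ≤ L) hzF
  -- `r ∉ L`
  have hrL : r ∉ L := by
    rw [hL]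
    rintro ⟨w, hw, f, ⟨hf, hf2⟩, hwf⟩
    have h1 : π w * π f = 1 := by rw [← map_mul, hwf]; exact (C.ker _).2 R.mem
    have h2 : π w ∈ E := by
      rw [mul_eq_one_iff_eq_inv.1 h1]
      exact inv_mem hf
    obtain ⟨i, hi⟩ := hWel w hw
    have hfr : ∀ s : K, s * s = 1 → w = s → s ∈ center K → False := by
      rintro s hs rfl hsc
      apply R.r2
      have h3 : w * f = f * w := Cov.cen hsc f
      rw [← hwf]
      calc w * f * (w * f) = w * (f * w) * f := by group
        _ = w * (w * f) * f := by rw [h3]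
        _ = w * w * (f * f) := by group
        _ = 1 := by rw [hs, hf2, one_mul]
    rcases hi with hi | hi
    · have h3 : (a * b) ^ i ∈ E := by
        rw [hi, map_pow, map_mul, hâ, hc] at h2
        exact h2
      obtain ⟨j, rfl⟩ := D.rot i h3
      rw [pow_mul] at hi
      rcases hac4 with h | h
      · rw [h, one_pow] at hi
        exact hfr 1 (one_mul 1) hi (one_mem _)
      · rw [h] at hi
        apply hfr ((r * r) ^ j) ?_ hi (pow_mem (mul_mem R.mem R.mem) _)
        rw [← (show Commute (r * r) (r * r) from rfl).mul_pow, hz, one_pow]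
    · apply D.refl i
      rw [hi, map_mul, map_pow, map_mul, hâ, hc] at h2
      exact h2
  -- `L` is a 2-group
  have hF2 : IsPGroup 2 ↥F := by
    intro f
    refine ⟨1, ?_⟩
    apply Subtype.ext
    rw [pow_one, pow_two]
    exact f.2.2
  have hW2 : IsPGroup 2 ↥W := by
    rintro ⟨w, hw⟩
    refine ⟨3, ?_⟩
    apply Subtype.ext
    change w ^ 2 ^ 3 = 1
    obtain ⟨i, hi⟩ := hWel w hw
    rcases hi with rfl | rfl
    · rw [← pow_mul, mul_comm, pow_mul, show (2 : ℕ) ^ 3 = 8 by norm_num, hac8, one_pow]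
    · have h1 : (â * c) ^ i * â * ((â * c) ^ i * â) = 1 := by
        have h2 : ∀ i : ℕ, (â * c) ^ i * â = â * (c * â) ^ i := by
          intro i
          induction i with
          | zero => simp
          | succ i ih =>
            calc (â * c) ^ (i + 1) * â = (â * c) * ((â * c) ^ i * â) := by rw [pow_succ']; group
              _ = (â * c) * (â * (c * â) ^ i) := by rw [ih]
              _ = â * (c * â) ^ (i + 1) := by rw [pow_succ' (c * â)]; simp only [mul_assoc]
        have h3 : (c * â) ^ i = ((â * c) ^ i)⁻¹ := by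
          rw [← inv_pow, mul_inv_rev, hâi, hci]
        calc (â * c) ^ i * â * ((â * c) ^ i * â) = (â * c) ^ i * â * (â * (c * â) ^ i) := by rw [h2]
          _ = (â * c) ^ i * (â * â) * (c * â) ^ i := by group
          _ = 1 := by rw [hâ2, h3]; group
      rw [show (2 : ℕ) ^ 3 = 2 * 4 by norm_num, pow_mul, pow_two, h1, one_pow]
  have hL2 : IsPGroup 2 ↥L := IsPGroup.to_sup_of_normal_right' hW2 hF2 hWN
  -- the image of `L` has odd index
  have hS2 : IsPGroup 2 ↥(L.map π) := hL2.map π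
  have hES : E ≤ L.map π := by
    intro x hx
    obtain ⟨f, hf, hf2⟩ := R.exists_inv C D (D.sq x hx)
    refine ⟨f, (le_sup_right : F ≤ L) ⟨by rwa [hf], hf2⟩, hf⟩
  have haS : a ∈ L.map π := ⟨â, (le_sup_left : W ≤ L) (subset_closure (Or.inl rfl)), hâ⟩
  have hbS : b ∈ L.map π := ⟨c, (le_sup_left : W ≤ L) (subset_closure (Or.inr rfl)), hc⟩
  have hodd := D.odd _ hES haS hbS hS2
  rw [← index_comap_of_surjective (L.map π) C.surj] at hodd
  refine transfer_false C.perf R.mem hodd ?_ hrL hzL ?_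
  · change π r ∈ L.map π
    rw [(C.ker _).2 R.mem]
    exact one_mem _
  · intro p hp
    obtain ⟨l, hl, hlp⟩ := hp
    obtain ⟨s, hs, hps⟩ := C.eq_mul (k := p) (l := l) hlp.symm
    rw [hps]
    have hl' : l ∈ L := hl
    rcases R.cases s hs with rfl | rfl | rfl | rfl
    · left; rwa [mul_one]
    · right; rw [mul_assoc]; exact mul_mem hl' hzL
    · left; exact mul_mem hl' hzL
    · right
      have h1 : l * (r * r * r) * r = l * (r * r * (r * r)) := by group
      rw [h1, hz, mul_one]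
      exact hl'

/-- **`OutSq`**: `z = r²` is the square of a fixed point of every outer involution inverting `r`. -/
theorem outSq [Finite K] (C : Cov π) (D : EData X E a b) (R : Four r) : OutSq (r * r) := by
  intro α hα hout hinv
  have hz := R.r4
  have hαr : α r = r⁻¹ := hinv r R.mem rfl
  have hαz : α (r * r) = r * r := by
    rw [map_mul, hαr]
    have h1 : r⁻¹ * r⁻¹ = (r * r)⁻¹ := (mul_inv_rev r r).symm
    rw [h1]
    exact inv_eq_of_mul_eq_one_left hz
  -- it is enough to find a fixed point with square `r²`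
  suffices h : ∃ y, α y = y ∧ y * y = r * r by
    obtain ⟨y, hy, hyy⟩ := h
    exact ⟨r * r, Subgroup.subset_closure ⟨y, hy, hyy.symm⟩, Or.inl rfl⟩
  obtain ⟨β, hβ⟩ := C.exists_ind α
  have hβ2 : β * β = 1 := by
    ext x
    obtain ⟨k, rfl⟩ := C.surj x
    rw [MulAut.mul_apply, ← hβ, ← hβ, ← MulAut.mul_apply, hα]
    rfl
  obtain ⟨g, hg⟩ := D.outer β hβ2 (C.outer_ind hβ hout)
  obtain ⟨g', rfl⟩ := C.surj g
  obtain ⟨x₀, y₀, hx₀, hy₀, hxy₀⟩ := R.nonab C D
  -- lifts with square 1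
  obtain ⟨x, hx, hx2⟩ := R.exists_inv C D (D.sq _ hx₀)
  obtain ⟨y, hy, hy2⟩ := R.exists_inv C D (D.sq _ hy₀)
  have hxy : x * y ≠ y * x := by
    intro h
    apply hxy₀
    obtain ⟨c, hc, rfl⟩ := C.eq_mul hx.symm
    obtain ⟨d, hd, rfl⟩ := C.eq_mul hy.symm
    calc x * c * (y * d) = x * (c * y) * d := by group
      _ = x * (y * c) * d := by rw [Cov.cen hc]
      _ = (x * y) * (c * d) := by group
      _ = (y * x) * (d * c) := by rw [h, Cov.cen hc]
      _ = y * (x * d) * c := by group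
      _ = y * (d * x) * c := by rw [Cov.cen hd]
      _ = y * d * (x * c) := by group
  rw [← hx] at hx₀
  rw [← hy] at hy₀
  -- an involution over a fixed point is fixed up to `z`
  have key : ∀ f : K, π f ∈ E → f * f = 1 → α (g' * f * g'⁻¹) = g' * f * g'⁻¹ ∨
      ∃ y, α y = y ∧ y * y = r * r := by
    intro f hf hf2
    have h1 : π (α (g' * f * g'⁻¹)) = π (g' * f * g'⁻¹) := by
      rw [hβ, map_mul π, map_mul π, map_inv π]
      exact hg _ hf
    obtain ⟨c, hc, hcf⟩ := C.eq_mul h1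
    have h2 : g' * f * g'⁻¹ * (g' * f * g'⁻¹) = 1 := by
      calc g' * f * g'⁻¹ * (g' * f * g'⁻¹) = g' * (f * f) * g'⁻¹ := by group
        _ = 1 := by rw [hf2]; group
    set f' := g' * f * g'⁻¹ with hf'
    have h3 : c * c = 1 := by
      have h4 : α f' * α f' = 1 := by rw [← map_mul, h2, map_one]
      rw [hcf] at h4
      calc c * c = (f' * f') * (c * c) := by rw [h2, one_mul]
        _ = f' * (f' * c) * c := by group
        _ = f' * (c * f') * c := by rw [Cov.cen hc]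
        _ = f' * c * (f' * c) := by group
        _ = 1 := h4
    rcases R.cen2 hc h3 with rfl | rfl
    · left; rw [hcf, mul_one]
    · right
      refine ⟨f' * r, ?_, ?_⟩
      · rw [map_mul, hcf, hαr]
        group
      · calc f' * r * (f' * r) = f' * (r * f') * r := by group
          _ = f' * (f' * r) * r := by rw [R.rc]
          _ = (f' * f') * (r * r) := by group
          _ = r * r := by rw [h2, one_mul]
  rcases key x hx₀ hx2 with hfx | h
  · rcases key y hy₀ hy2 with hfy | h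
    · -- `w = x y`
      refine ⟨g' * x * g'⁻¹ * (g' * y * g'⁻¹), by rw [map_mul, hfx, hfy], ?_⟩
      have h1 : x * y * (x * y) ∈ center K := (C.ker _).1 (by
        rw [map_mul, map_mul]
        exact D.sq _ (mul_mem hx₀ hy₀))
      rcases R.sq_cases C D h1 with h2 | h2
      · exfalso
        apply hxy
        have h3 : (x * y)⁻¹ = x * y := inv_eq_of_mul_eq_one_left h2
        rw [← h3, mul_inv_rev, inv_eq_of_mul_eq_one_left hx2, inv_eq_of_mul_eq_one_left hy2]
      · calc g' * x * g'⁻¹ * (g' * y * g'⁻¹) * (g' * x * g'⁻¹ * (g' * y * g'⁻¹))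
            = g' * (x * y * (x * y)) * g'⁻¹ := by group
          _ = g' * (r * r) * g'⁻¹ := by rw [h2]
          _ = (r * r) * g' * g'⁻¹ := by rw [Cov.cen (mul_mem R.mem R.mem) g']
          _ = r * r := by group
    · exact h
  · exact h

end Four

end Cfsg.Agent.OddHalf.D9.M22.CovFour

end
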