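import Mathlib.Data.Nat.Notation
import Cfsg.Agent.KFacts.MM.InvM22
import Cfsg.Agent.J4Type.Aut22
import Cfsg.Agent.OddHalf.D9.M22.CovFour

-- merged: Cfsg.Agent.OddHalf.D9.M22.Data
section

/-!
# Packed permutations for the facts about `M22` and `M22.2` used for the covers of `M22`

The group `M22.2` is the stabiliser in `M24` of the set of the points of indices 23 and 0.
-/

set_option autoImplicit false

namespace Cfsg.Agent.OddHalf.D9.M22.Data

/-- an involution interchanging 23 and 0, with 8 fixed points, commuting with all of `WL` -/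
def aP : ℕ := 5989235823820259689967313196876887

/-- an involution interchanging 23 and 0, without fixed points, commuting with all of `WL` -/
def bP : ℕ := 5447382388983081592886053788877911

/-- elements of `M24` conjugating the involution `P1` to `aP`, mapping the moved points of `P1` to 23 -/
def cA : List ℕ := [
  666698304442815333842525571577873047,
  671683740289467998103476851058236768,
  900929671127128369491856291856467429,
  670507557355440009447890480029632833,
  569268944852052929204146967471773043,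
  107914084243533090969633317994182288,
  278378700227790904919366957980274325,
  900954988225571224619251364400699719,
  255732795713921380865899522364627428,
  872967878740555508842617841688069605,
  184582695147872208226783207728890445,
  18350718961188289625920676061328752,
  923471715631182341612730791658866053,
  568216948345703776550834124399986149,
  320718666014440383963810421849872964,
  977556892411248778714807077089594741]

/-- elements of `M24` conjugating the involution `P2` to `bP`, mapping the points to 23 -/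
def cB : List ℕ := [
  444331860060415716664282775182260791,
  148570299619582709433822081766851306,
  652024181292720397022426587778505736,
  555175568032577027681215281547164207,
  268183697429256553997982929511778346,
  632985498441938434908435474639128630,
  375568987539881424218400380075711152,
  501797218534951800357578603446315495,
  395236401338404291370579053180361379,
  134291182864723870180523849129798112,
  380760858565061111505299864890264808,
  130397368837416557417585996105557650,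
  5275184003849185918959808197217522,
  837682717206143964244611599108710992,
  275972029741435477090103466546383107,
  234361158629418077159952867022559368,
  810268809026392975738358338068036136,
  581744215316184835909985405727186540,
  818056793446637891873651072899163777,
  586937084050081671218984504512852322,
  58442621298910745327468524801935633,
  59346820116846675047810529710230770,
  362664003524868940133862933313113317,
  965810851301864897915895762954398180]

/-- an involution of `M22` normalising `WL` -/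
def uP : ℕ := 979612761135085349229180013683835968

/-- an involution of `M22` normalising `WL`, `uP * vP` of order 4 -/
def vP : ℕ := 965128854020860192151391391390468128

/-- an element of order 3 commuting with `zP` -/
def d0 : ℕ := 963346899445373020599264805269837344

/-- an element of order 3 commuting with `zP` -/
def d1 : ℕ := 964038917760814939315992205756774496

/-- an element of order 3 commuting with `zP` -/
def d2 : ℕ := 964046510025216699383369721277746624

/-- words in `d0`, `d1`, `d2` -/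
def dW : List (List ℕ) := [
  [],
  [d0],
  [d1],
  [d2],
  [d0, d0],
  [d0, d1],
  [d0, d2],
  [d1, d0],
  [d1, d2],
  [d2, d0],
  [d2, d1],
  [d0, d0, d1],
  [d0, d0, d2],
  [d1, d2, d0],
  [d0, d1, d2, d0],
  [d1, d0, d0, d2],
  [d0, d0, d1, d2, d0]]

end Cfsg.Agent.OddHalf.D9.M22.Data

end

-- merged: Cfsg.Agent.OddHalf.D9.M22.Perm
section

/-!
# Facts about `M22` and `M22.2 = D22` used for the covers of `M22`

`E`: the subgroup `WL` of order 16, with normaliser `2⁴:S₅`.

* `exists_conj_z` : the normaliser of `E` in `M22` is transitive on the involutions of `E`;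
* `mem_E_of_comm` : `C(E) = E` in `M22`;
* `aP_*` : the involution `aP` of `D22 - M22` commutes with `E`, and no element of `aP E` commutes with `N(E)`;
* `exists_outer` : every involution of `D22 - M22` is conjugate in `M22` to an involution commuting with `E`;
* `sq_of_comm` : if `g ∈ D22` commutes with all elements of order three of `M22` commuting with `zP`, `g² = 1`;
* `syl_card` : `⟨E, uP, vP⟩` has at least 128 elements.
-/

set_option autoImplicit false
set_option Elab.async false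

namespace Cfsg.Agent.OddHalf.D9.M22

open Cfsg Cfsg.Agent.SporadicA.GolayBase Cfsg.Agent.SporadicA.GolayPerm
open Cfsg.Agent.SporadicStructure.M24El Cfsg.Agent.KFacts.MM
open Cfsg.Agent.KFacts.MM.El (pm pr ev val weq okl pts)
open Cfsg.Agent.KFacts.MM.Data (WL kW zP)
open Cfsg.Agent.J4Type.Aut22 (D22)
open Cfsg.Agent.KFacts.MM.InvM22 (isPerm_of_ok)

abbrev Pm := Equiv.Perm GolayPt

/-! ### Packed elements -/

theorem pt_23 : pt 23 = (none : GolayPt) := rfl

theorem pt_0 : pt 0 = (some 0 : GolayPt) := by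
  unfold pt
  simp

/-- the packed permutation is in `M22` -/
def ok22 (P : ℕ) : Bool := ok P && Nat.beq (papp P 23) 23 && Nat.beq (papp P 0) 0

theorem ok22_iff {P : ℕ} : ok22 P = true ↔ ok P = true ∧ papp P 23 = 23 ∧ papp P 0 = 0 := by
  unfold ok22
  rw [Bool.and_eq_true, Bool.and_eq_true, Nat.beq_eq, Nat.beq_eq, and_assoc]

theorem pm_pt {P : ℕ} (h : ok P = true) {i : ℕ} (hi : i < 24) : pm P (pt i) = pt (papp P i) := by
  rw [← El.pt_val, El.val_pm (isPerm_of_ok h) hi]

theorem pm_M24 {P : ℕ} (h : ok P = true) : pm P ∈ M24 := InvM22.pm_mem h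

theorem pm_M22 {P : ℕ} (h : ok22 P = true) : pm P ∈ Spor.M22 := by
  obtain ⟨h1, h2, h3⟩ := ok22_iff.1 h
  rw [Cfsg.Agent.SporadicA.MathieuRecog.mem_M22_iff]
  refine ⟨pm_M24 h1, ?_, ?_⟩
  · rw [← pt_23, pm_pt h1 (by norm_num), h2]
  · rw [← pt_0, pm_pt h1 (by norm_num), h3]

theorem okl_two {P Q : ℕ} (hP : isPerm P = true) (hQ : isPerm Q = true) : okl [P, Q] = true := by
  unfold El.okl
  rw [List.all_cons, List.all_cons, List.all_nil, hP, hQ]
  rfl

theorem okl_one {P : ℕ} (hP : isPerm P = true) : okl [P] = true := by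
  unfold El.okl
  rw [List.all_cons, List.all_nil, hP]
  rfl

theorem okl_three {P Q R : ℕ} (hP : isPerm P = true) (hQ : isPerm Q = true) (hR : isPerm R = true) :
    okl [P, Q, R] = true := by
  unfold El.okl
  rw [List.all_cons, List.all_cons, List.all_cons, List.all_nil, hP, hQ, hR]
  rfl

theorem eq_two {P Q R S : ℕ} (hP : isPerm P = true) (hQ : isPerm Q = true) (hR : isPerm R = true)
    (hS : isPerm S = true) (h : weq [P, Q] [R, S] = true) : pm P * pm Q = pm R * pm S := by
  have h1 := El.pr_of_weq (okl_two hP hQ) (okl_two hR hS) h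
  rwa [El.pr_cons, El.pr_one, El.pr_cons, El.pr_one] at h1

theorem eq_one {P Q R : ℕ} (hP : isPerm P = true) (hQ : isPerm Q = true) (hR : isPerm R = true)
    (h : weq [P, Q] [R] = true) : pm P * pm Q = pm R := by
  have h1 := El.pr_of_weq (okl_two hP hQ) (okl_one hR) h
  rwa [El.pr_cons, El.pr_one, El.pr_one] at h1

theorem eq_nil {P Q : ℕ} (hP : isPerm P = true) (hQ : isPerm Q = true)
    (h : weq [P, Q] [] = true) : pm P * pm Q = 1 := by
  have h1 := El.pr_of_weq (okl_two hP hQ) rfl h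
  rwa [El.pr_cons, El.pr_one, El.pr_nil] at h1

theorem pm_idP : pm idP = 1 := by
  have h1 := El.pr_of_weq (l := [idP]) (m := []) (by decide +kernel) rfl (by decide +kernel)
  rwa [El.pr_one, El.pr_nil] at h1

/-! ### The subgroup `E` -/

theorem WL_ok : WL.all ok22 = true := by decide +kernel

theorem WL_mul : (WL.all fun P => WL.all fun Q => WL.any fun R => weq [P, Q] [R]) = true := by
  decide +kernel

theorem WL_comm : (WL.all fun P => WL.all fun Q => weq [P, Q] [Q, P]) = true := by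
  decide +kernel

theorem WL_sq : (WL.all fun P => weq [P, P] []) = true := by
  decide +kernel

theorem ok22_of_WL {P : ℕ} (h : P ∈ WL) : ok22 P = true := List.all_eq_true.1 WL_ok P h

theorem ok_of_ok22 {P : ℕ} (h : ok22 P = true) : ok P = true := (ok22_iff.1 h).1

theorem perm_of_WL {P : ℕ} (h : P ∈ WL) : isPerm P = true := isPerm_of_ok (ok_of_ok22 (ok22_of_WL h))

theorem sq_of_WL {P : ℕ} (h : P ∈ WL) : pm P * pm P = 1 :=
  eq_nil (perm_of_WL h) (perm_of_WL h) (List.all_eq_true.1 WL_sq P h)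

/-- the elementary abelian subgroup of order 16 with normaliser `2⁴:S₅` in `M22` -/
def E : Subgroup (Equiv.Perm GolayPt) where
  carrier := {g | ∃ P ∈ WL, pm P = g}
  mul_mem' := by
    rintro _ _ ⟨P, hP, rfl⟩ ⟨Q, hQ, rfl⟩
    have h1 := List.all_eq_true.1 (List.all_eq_true.1 WL_mul P hP) Q hQ
    obtain ⟨R, hR, h2⟩ := List.any_eq_true.1 h1
    exact ⟨R, hR, (eq_one (perm_of_WL hP) (perm_of_WL hQ) (perm_of_WL hR) h2).symm⟩
  one_mem' := ⟨idP, by decide +kernel, pm_idP⟩
  inv_mem' := by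
    rintro _ ⟨P, hP, rfl⟩
    exact ⟨P, hP, (inv_eq_of_mul_eq_one_left (sq_of_WL hP)).symm⟩

theorem mem_E {g : Equiv.Perm GolayPt} : g ∈ E ↔ ∃ P ∈ WL, pm P = g := Iff.rfl

theorem pm_mem_E {P : ℕ} (h : P ∈ WL) : pm P ∈ E := ⟨P, h, rfl⟩

theorem E_le : E ≤ Spor.M22 := by
  rintro _ ⟨P, hP, rfl⟩
  exact pm_M22 (ok22_of_WL hP)

theorem E_sq {g : Equiv.Perm GolayPt} (h : g ∈ E) : g * g = 1 := by
  obtain ⟨P, hP, rfl⟩ := h
  exact sq_of_WL hP

theorem E_comm {g h : Equiv.Perm GolayPt} (hg : g ∈ E) (hh : h ∈ E) : g * h = h * g := by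
  obtain ⟨P, hP, rfl⟩ := hg
  obtain ⟨Q, hQ, rfl⟩ := hh
  exact eq_two (perm_of_WL hP) (perm_of_WL hQ) (perm_of_WL hQ) (perm_of_WL hP)
    (List.all_eq_true.1 (List.all_eq_true.1 WL_comm P hP) Q hQ)

theorem card_E : Nat.card E = 16 := by
  have h := El.card_of_list (L := WL.map fun P => [P]) (by decide +kernel) (by decide +kernel)
    (E : Set (Equiv.Perm GolayPt)) (by
      intro g
      constructor
      · rintro ⟨P, hP, rfl⟩
        exact ⟨[P], List.mem_map_of_mem hP, El.pr_one P⟩
      · rintro ⟨l, hl, rfl⟩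
        obtain ⟨P, hP, rfl⟩ := List.mem_map.1 hl
        exact ⟨P, hP, (El.pr_one P).symm⟩)
  exact h

theorem zP_mem : pm zP ∈ E := pm_mem_E (by decide +kernel)

/-! ### The normaliser of `E` -/

/-- `g ∈ M22` normalises `E` -/
def Nrm (g : Equiv.Perm GolayPt) : Prop := g ∈ Spor.M22 ∧ ∀ w ∈ E, g * w * g⁻¹ ∈ E

/-- test for `Nrm` -/
def nrm (n : ℕ) : Bool := ok22 n && WL.all fun P => WL.any fun Q => weq [n, P] [Q, n]

theorem nrm_pm {n : ℕ} (h : nrm n = true) : Nrm (pm n) := by
  unfold nrm at h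
  rw [Bool.and_eq_true] at h
  refine ⟨pm_M22 h.1, ?_⟩
  rintro _ ⟨P, hP, rfl⟩
  obtain ⟨Q, hQ, h2⟩ := List.any_eq_true.1 (List.all_eq_true.1 h.2 P hP)
  have hn := isPerm_of_ok (ok_of_ok22 h.1)
  have h3 := eq_two hn (perm_of_WL hP) (perm_of_WL hQ) hn h2
  rw [h3, mul_inv_cancel_right]
  exact pm_mem_E hQ

theorem kW_nrm : kW.all nrm = true := by decide +kernel

theorem Nrm.inv_mem {g : Equiv.Perm GolayPt} (h : Nrm g) {w : Equiv.Perm GolayPt} (hw : w ∈ E) :
    g⁻¹ * w * g ∈ E := by
  -- conjugation by `g` is an injective map of the finite set `E` to itself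
  have hfin : (E : Set (Equiv.Perm GolayPt)).Finite := Set.toFinite _
  have hmap : Set.MapsTo (fun x => g * x * g⁻¹) (E : Set (Equiv.Perm GolayPt)) E := fun x hx => h.2 x hx
  have hinj : Set.InjOn (fun x => g * x * g⁻¹) (E : Set (Equiv.Perm GolayPt)) := by
    intro x _ y _ hxy
    exact mul_left_cancel (mul_right_cancel hxy)
  obtain ⟨x, hx, hxw⟩ := ((hfin.injOn_iff_bijOn_of_mapsTo hmap).1 hinj).surjOn hw
  have : g⁻¹ * w * g = x := by
    rw [← hxw]; group
  rw [this]; exact hx

theorem kW_conj : (WL.all fun P => Nat.beq P idP || kW.any fun n => weq [n, zP] [P, n]) = true := by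
  decide +kernel

theorem exists_conj_z {w : Equiv.Perm GolayPt} (hw : w ∈ E) (h1 : w ≠ 1) :
    ∃ n, Nrm n ∧ n * pm zP * n⁻¹ = w := by
  obtain ⟨P, hP, rfl⟩ := hw
  have h2 := List.all_eq_true.1 kW_conj P hP
  rw [Bool.or_eq_true] at h2
  rcases h2 with h2 | h2
  · exfalso
    apply h1
    rw [Nat.eq_of_beq_eq_true h2, pm_idP]
  · obtain ⟨n, hn, h3⟩ := List.any_eq_true.1 h2
    have h4 := List.all_eq_true.1 kW_nrm n hn
    have h5 : isPerm n = true := by
      unfold nrm at h4
      rw [Bool.and_eq_true] at h4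
      exact isPerm_of_ok (ok_of_ok22 h4.1)
    refine ⟨pm n, nrm_pm h4, ?_⟩
    rw [eq_two h5 (isPerm_of_ok InvM22.ok_z) (perm_of_WL hP) h5 h3, mul_inv_cancel_right]

/-! ### The centraliser of `E` in `M22` -/

/-- the octad `{3, 5, 14, 17} ∪ {4, 13, 16, 22}` -/
def o2 : ℕ := 4415544

theorem o2_mem : fin o2 ∈ octads :=
  (fin_mem_octads_iff (by norm_num [o2])).2 (by decide +kernel)

theorem t1_ok : (pts.all fun j => [3, 5, 14, 17].any (Nat.beq j) || WL.any fun P =>
    (Nat.beq (papp P 3) 3 && !(Nat.beq (papp P j) j)) || (!(Nat.beq (papp P 3) 3) && Nat.beq (papp P j) j)) =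
      true := by decide +kernel

theorem t2_ok : (pts.all fun j => [4, 13, 16, 22].any (Nat.beq j) || WL.any fun P =>
    (Nat.beq (papp P 4) 4 && !(Nat.beq (papp P j) j)) || (!(Nat.beq (papp P 4) 4) && Nat.beq (papp P j) j)) =
      true := by decide +kernel

theorem t3_ok : ([3, 5, 14, 17].all fun i => [4, 13, 16, 22].all fun j => WL.any fun P =>
    Nat.beq (papp P i) 3 && Nat.beq (papp P j) 4) = true := by decide +kernel

theorem t4_ok : (pts.all fun i => !(o2.testBit i) || WL.any fun P => Nat.beq (papp P 3) i ||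
    Nat.beq (papp P 4) i) = true := by decide +kernel

/-- commutation and values -/
theorem val_comm {g : Equiv.Perm GolayPt} {P : ℕ} (hP : isPerm P = true) (h : g * pm P = pm P * g) {i : ℕ}
    (hi : i < 24) : val g (papp P i) = papp P (val g i) := by
  rw [← El.val_pm hP hi, ← El.val_mul, h, El.val_mul, El.val_pm hP (El.val_lt _ _)]

theorem val_fix {g : Equiv.Perm GolayPt} {P : ℕ} (hP : isPerm P = true) (h : g * pm P = pm P * g) {i : ℕ}
    (hi : i < 24) : papp P i = i ↔ papp P (val g i) = val g i := by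
  rw [← val_comm hP h hi]
  constructor
  · intro h1; rw [h1]
  · intro h1; exact El.val_inj (papp_lt hP hi) hi h1

theorem mem_list4 {a b c d j : ℕ} (h : [a, b, c, d].any (Nat.beq j) = true) : j ∈ [a, b, c, d] := by
  obtain ⟨x, hx, h2⟩ := List.any_eq_true.1 h
  rw [Nat.eq_of_beq_eq_true h2]; exact hx

/-- the image of a base point under an element commuting with `E` -/
theorem img_base {g : Equiv.Perm GolayPt} (hc : ∀ w ∈ E, g * w = w * g) {b : ℕ} (hb : b < 24) {l : List ℕ}
    (ht : (pts.all fun j => l.any (Nat.beq j) || WL.any fun P =>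
      (Nat.beq (papp P b) b && !(Nat.beq (papp P j) j)) || (!(Nat.beq (papp P b) b) && Nat.beq (papp P j) j)) =
        true) : val g b ∈ l := by
  have h1 := List.all_eq_true.1 ht _ (El.mem_pts (El.val_lt g b))
  rw [Bool.or_eq_true] at h1
  rcases h1 with h1 | h1
  · obtain ⟨x, hx, h2⟩ := List.any_eq_true.1 h1
    rw [Nat.eq_of_beq_eq_true h2]; exact hx
  · exfalso
    obtain ⟨P, hP, h2⟩ := List.any_eq_true.1 h1
    have h3 := val_fix (perm_of_WL hP) (hc _ (pm_mem_E hP)) hb
    rw [Bool.or_eq_true, Bool.and_eq_true, Bool.and_eq_true, Bool.not_eq_true', Bool.not_eq_true', Nat.beq_eq,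
      Nat.beq_eq] at h2
    rcases h2 with ⟨h4, h5⟩ | ⟨h4, h5⟩
    · rw [h3.1 h4, Nat.beq_refl] at h5
      cases h5
    · rw [h3.2 h5, Nat.beq_refl] at h4
      cases h4

theorem mem_E_of_comm {g : Equiv.Perm GolayPt} (hg : g ∈ Spor.M22) (hc : ∀ w ∈ E, g * w = w * g) : g ∈ E := by
  have h1 := img_base hc (b := 3) (by norm_num) t1_ok
  have h2 := img_base hc (b := 4) (by norm_num) t2_ok
  obtain ⟨P, hP, h3⟩ := List.any_eq_true.1
    (List.all_eq_true.1 (List.all_eq_true.1 t3_ok _ h1) _ h2)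
  rw [Bool.and_eq_true, Nat.beq_eq, Nat.beq_eq] at h3
  have hPE := pm_mem_E hP
  -- `h = P g` fixes the octad pointwise
  set h : Equiv.Perm GolayPt := pm P * g with hh
  have hhc : ∀ w ∈ E, h * w = w * h := by
    intro w hw
    rw [hh, mul_assoc, hc w hw, ← mul_assoc, E_comm hPE hw, mul_assoc]
  have hv3 : val h 3 = 3 := by
    rw [hh, El.val_mul, El.val_pm (perm_of_WL hP) (El.val_lt _ _)]; exact h3.1
  have hv4 : val h 4 = 4 := by
    rw [hh, El.val_mul, El.val_pm (perm_of_WL hP) (El.val_lt _ _)]; exact h3.2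
  have hmem : h ∈ Spor.M22 := Spor.M22.mul_mem (E_le hPE) hg
  have hfix : h ∈ Cfsg.Agent.SporadicA.OctadFix.fixOct (fin o2) := by
    rw [Cfsg.Agent.SporadicA.OctadFix.mem_fixOct]
    refine ⟨((Cfsg.Agent.SporadicA.MathieuRecog.mem_M22_iff _).1 hmem).1, fun x hx => ?_⟩
    rw [mem_fin] at hx
    have hlt := idx_lt x
    have h5 := List.all_eq_true.1 t4_ok _ (El.mem_pts hlt)
    rw [hx, Bool.not_true, Bool.false_or] at h5
    obtain ⟨Q, hQ, h6⟩ := List.any_eq_true.1 h5
    rw [Bool.or_eq_true, Nat.beq_eq, Nat.beq_eq] at h6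
    have h7 : val h (idx x) = idx x := by
      rcases h6 with h6 | h6
      · rw [← h6, val_comm (perm_of_WL hQ) (hhc _ (pm_mem_E hQ)) (by norm_num), hv3]
      · rw [← h6, val_comm (perm_of_WL hQ) (hhc _ (pm_mem_E hQ)) (by norm_num), hv4]
    unfold El.val at h7
    rw [pt_idx] at h7
    exact idx_injective h7
  have hn : (none : GolayPt) ∉ fin o2 := by
    rw [← pt_23, mem_fin, idx_pt (by norm_num)]
    decide +kernel
  have huniq := (Cfsg.Agent.SporadicA.OctadFix.existsUnique_fixOct o2_mem hn hn).unique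
    ⟨hfix, ((Cfsg.Agent.SporadicA.MathieuRecog.mem_M22_iff _).1 hmem).2.1⟩ ⟨one_mem _, rfl⟩
  have h8 : g = (pm P)⁻¹ := by
    rw [eq_comm, inv_eq_iff_mul_eq_one]
    exact huniq
  rw [h8]
  exact E.inv_mem hPE

/-! ### Outer elements -/

open Cfsg.Agent.OddHalf.D9.M22.Data (aP bP cA cB uP vP dW d0 d1 d2)

theorem ok_aP : ok aP = true := by decide +kernel
theorem ok_bP : ok bP = true := by decide +kernel
theorem a_23 : papp aP 23 = 0 := by decide +kernel
theorem a_0 : papp aP 0 = 23 := by decide +kernel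
theorem b_23 : papp bP 23 = 0 := by decide +kernel
theorem b_0 : papp bP 0 = 23 := by decide +kernel

theorem pm_aP_D22 : pm aP ∈ D22 := by
  rw [Cfsg.Agent.J4Type.Aut22.mem_D22_iff]
  refine ⟨pm_M24 ok_aP, Or.inr ⟨?_, ?_⟩⟩
  · rw [← pt_23, pm_pt ok_aP (by norm_num), a_23, pt_0]
  · rw [← pt_0, pm_pt ok_aP (by norm_num), a_0]
    rfl

theorem pm_aP_none : pm aP none = some 0 := by
  rw [← pt_23, pm_pt ok_aP (by norm_num), a_23, pt_0]

theorem pm_bP_none : pm bP none = some 0 := by
  rw [← pt_23, pm_pt ok_bP (by norm_num), b_23, pt_0]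

theorem aP_comm_ok : (WL.all fun P => weq [aP, P] [P, aP]) = true := by decide +kernel
theorem bP_comm_ok : (WL.all fun P => weq [bP, P] [P, bP]) = true := by decide +kernel

theorem aP_comm {w : Equiv.Perm GolayPt} (hw : w ∈ E) : pm aP * w = w * pm aP := by
  obtain ⟨P, hP, rfl⟩ := hw
  exact eq_two (isPerm_of_ok ok_aP) (perm_of_WL hP) (perm_of_WL hP) (isPerm_of_ok ok_aP)
    (List.all_eq_true.1 aP_comm_ok P hP)

theorem bP_comm {w : Equiv.Perm GolayPt} (hw : w ∈ E) : pm bP * w = w * pm bP := by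
  obtain ⟨P, hP, rfl⟩ := hw
  exact eq_two (isPerm_of_ok ok_bP) (perm_of_WL hP) (perm_of_WL hP) (isPerm_of_ok ok_bP)
    (List.all_eq_true.1 bP_comm_ok P hP)

theorem aP_ncomm_ok : (WL.all fun P => kW.any fun n => !(weq [n, P, aP] [P, aP, n])) = true := by
  decide +kernel

/-- no element of `E aP` commutes with the normaliser of `E` -/
theorem exists_ncomm {w : Equiv.Perm GolayPt} (hw : w ∈ E) :
    ∃ n, Nrm n ∧ n * (w * pm aP) ≠ w * pm aP * n := by
  obtain ⟨P, hP, rfl⟩ := hw
  obtain ⟨n, hn, h1⟩ := List.any_eq_true.1 (List.all_eq_true.1 aP_ncomm_ok P hP)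
  have h4 := List.all_eq_true.1 kW_nrm n hn
  have h5 : isPerm n = true := by
    have h4' := h4
    unfold nrm at h4'
    rw [Bool.and_eq_true] at h4'
    exact isPerm_of_ok (ok_of_ok22 h4'.1)
  refine ⟨pm n, nrm_pm h4, ?_⟩
  have h6 := El.pr_ne (okl_three h5 (perm_of_WL hP) (isPerm_of_ok ok_aP))
    (okl_three (perm_of_WL hP) (isPerm_of_ok ok_aP) h5) (by rwa [Bool.not_eq_true'] at h1)
  rwa [El.pr_cons, El.pr_cons, El.pr_one, El.pr_cons, El.pr_cons, El.pr_one, ← mul_assoc (pm P)] at h6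

/-- the row test for the tables `cA`, `cB` -/
def rowT (P A : ℕ) (i : ℕ) (c : ℕ) : Bool := ok c && weq [c, P] [A, c] && Nat.beq (papp c i) 23

theorem cA_ok : (pts.all fun i => Nat.beq (papp J4.M24InvolData.P1 i) i ||
    cA.any (rowT J4.M24InvolData.P1 aP i)) = true := by decide +kernel

theorem cB_ok : (pts.all fun i => cB.any (rowT J4.M24InvolData.P2 bP i)) = true := by decide +kernel

/-- one type of outer involutions -/
theorem outer_aux {P A : ℕ} (hP : ok P = true) (hA : ok A = true) (hA23 : papp A 23 = 0)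
    {a h : Equiv.Perm GolayPt} (ha : a none = some 0) (hh : h ∈ M24)
    (hha : h * a * h⁻¹ = pm P) {c : ℕ} (hc : rowT P A (idx (h none)) c = true) :
    ∃ g ∈ Spor.M22, a = g * pm A * g⁻¹ := by
  unfold rowT at hc
  rw [Bool.and_eq_true, Bool.and_eq_true, Nat.beq_eq] at hc
  obtain ⟨⟨hok, hw⟩, hv⟩ := hc
  have h1 := eq_two (isPerm_of_ok hok) (isPerm_of_ok hP) (isPerm_of_ok hA) (isPerm_of_ok hok) hw
  have h2 : (pm c * h) * a * (pm c * h)⁻¹ = pm A := by
    have e : (pm c * h) * a * (pm c * h)⁻¹ = pm c * (h * a * h⁻¹) * (pm c)⁻¹ := by group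
    rw [e, hha, h1, mul_inv_cancel_right]
  have hn : (pm c * h) none = none := by
    rw [Equiv.Perm.mul_apply, ← pt_idx (h none), pm_pt hok (idx_lt _), hv]
    rfl
  have h0 : (pm c * h) (some 0) = some 0 := by
    have h3 : (pm c * h) * a = pm A * (pm c * h) := by rw [← h2]; group
    have h4 := congrArg (fun f : Equiv.Perm GolayPt => f none) h3
    simp only [Equiv.Perm.mul_apply] at h4
    rw [ha] at h4
    have h5 : pm c (h none) = none := hn
    rw [h5] at h4
    show pm c (h (some 0)) = some 0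
    rw [h4, ← pt_23, pm_pt hA (by norm_num), hA23, pt_0]
  have hM : pm c * h ∈ Spor.M22 := by
    rw [Cfsg.Agent.SporadicA.MathieuRecog.mem_M22_iff]
    exact ⟨M24.mul_mem (pm_M24 hok) hh, hn, h0⟩
  refine ⟨(pm c * h)⁻¹, Spor.M22.inv_mem hM, ?_⟩
  rw [← h2]; group

/-- **Every outer involution is conjugate to `aP` or `bP`**. -/
theorem outer_cases {a : Equiv.Perm GolayPt} (ha : a ∈ D22) (hn : a ∉ Spor.M22) (h2 : a * a = 1) :
    ∃ g ∈ Spor.M22, a = g * pm aP * g⁻¹ ∨ a = g * pm bP * g⁻¹ := by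
  obtain ⟨ha24, hcase⟩ := (Cfsg.Agent.J4Type.Aut22.mem_D22_iff a).1 ha
  have hsw : a none = some 0 ∧ a (some 0) = none := by
    rcases hcase with h | h
    · exact absurd ((Cfsg.Agent.SporadicA.MathieuRecog.mem_M22_iff a).2 ⟨ha24, h⟩) hn
    · exact h
  have h1 : a ≠ 1 := by
    intro e
    rw [e] at hsw
    exact absurd hsw.1 (by simp)
  obtain ⟨g, hg | hg⟩ := J4.M24Invol.invol_conj ⟨a, ha24⟩ (Subtype.ext h2)
    (fun e => h1 (congrArg Subtype.val e))
  · have hg' : (g : Equiv.Perm GolayPt) * a * (g : Equiv.Perm GolayPt)⁻¹ = pm J4.M24InvolData.P1 := by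
      rw [← El.coe_el J4.M24Invol.ok_P1]
      exact congrArg Subtype.val hg
    have hlt := idx_lt ((g : Equiv.Perm GolayPt) none)
    have h3 := List.all_eq_true.1 cA_ok _ (El.mem_pts hlt)
    rw [Bool.or_eq_true] at h3
    rcases h3 with h3 | h3
    · exfalso
      have h4 := Nat.eq_of_beq_eq_true h3
      have h5 : pm J4.M24InvolData.P1 ((g : Equiv.Perm GolayPt) none) = (g : Equiv.Perm GolayPt) none := by
        conv_lhs => rw [← pt_idx ((g : Equiv.Perm GolayPt) none)]
        rw [pm_pt J4.M24Invol.ok_P1 hlt, h4, pt_idx]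
      rw [← hg'] at h5
      have h6 : (g : Equiv.Perm GolayPt) (a ((g : Equiv.Perm GolayPt)⁻¹ ((g : Equiv.Perm GolayPt) none))) =
        (g : Equiv.Perm GolayPt) none := h5
      rw [show (g : Equiv.Perm GolayPt)⁻¹ ((g : Equiv.Perm GolayPt) none) = none from
        (g : Equiv.Perm GolayPt).symm_apply_apply none, hsw.1] at h6
      have h7 := (g : Equiv.Perm GolayPt).injective h6
      cases h7
    · obtain ⟨c, -, hc⟩ := List.any_eq_true.1 h3
      obtain ⟨k, hk, e⟩ := outer_aux J4.M24Invol.ok_P1 ok_aP a_23 hsw.1 g.2 hg' hc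
      exact ⟨k, hk, Or.inl e⟩
  · have hg' : (g : Equiv.Perm GolayPt) * a * (g : Equiv.Perm GolayPt)⁻¹ = pm J4.M24InvolData.P2 := by
      rw [← El.coe_el J4.M24Invol.ok_P2]
      exact congrArg Subtype.val hg
    have hlt := idx_lt ((g : Equiv.Perm GolayPt) none)
    obtain ⟨c, -, hc⟩ := List.any_eq_true.1 (List.all_eq_true.1 cB_ok _ (El.mem_pts hlt))
    obtain ⟨k, hk, e⟩ := outer_aux J4.M24Invol.ok_P2 ok_bP b_23 hsw.1 g.2 hg' hc
    exact ⟨k, hk, Or.inr e⟩

theorem exists_outer {a : Equiv.Perm GolayPt} (ha : a ∈ D22) (hn : a ∉ Spor.M22) (h2 : a * a = 1) :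
    ∃ g ∈ Spor.M22, ∀ w ∈ E, (g⁻¹ * a * g) * w = w * (g⁻¹ * a * g) := by
  obtain ⟨g, hg, h | h⟩ := outer_cases ha hn h2
  · refine ⟨g, hg, fun w hw => ?_⟩
    have e : g⁻¹ * a * g = pm aP := by rw [h]; group
    rw [e]; exact aP_comm hw
  · refine ⟨g, hg, fun w hw => ?_⟩
    have e : g⁻¹ * a * g = pm bP := by rw [h]; group
    rw [e]; exact bP_comm hw

/-! ### Elements of odd order commuting with the involution `zP` -/

theorem d_ok : ([d0, d1, d2].all fun d => ok22 d && weq [d, zP] [zP, d] && weq [d, d, d] []) = true := by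
  decide +kernel

theorem dW_mem : (dW.all fun w => w.all fun d => [d0, d1, d2].any (Nat.beq d)) = true := by decide +kernel

/-- the test for the base point `b` -/
def baseT (b : ℕ) : Bool := pts.all fun j => Nat.beq j 0 || Nat.beq j 23 || dW.any fun w =>
  (Nat.beq (ev w b) b && !(Nat.beq (ev w j) j)) || (Nat.beq (ev w b) j && Nat.beq (ev w j) b)

theorem base_ok : (baseT 1 && baseT 4 && baseT 8) = true := by decide +kernel

theorem cover_ok : (pts.all fun i => Nat.beq i 0 || Nat.beq i 23 || dW.any fun w =>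
    Nat.beq (ev w 1) i || Nat.beq (ev w 4) i || Nat.beq (ev w 8) i) = true := by decide +kernel

theorem dW_okl : dW.all okl = true := by decide +kernel

theorem D22_val {g : Equiv.Perm GolayPt} (hg : g ∈ D22) :
    (val g 23 = 23 ∧ val g 0 = 0) ∨ (val g 23 = 0 ∧ val g 0 = 23) := by
  unfold El.val
  rw [pt_23, pt_0]
  rcases ((Cfsg.Agent.J4Type.Aut22.mem_D22_iff g).1 hg).2 with ⟨h1, h2⟩ | ⟨h1, h2⟩
  · left; rw [h1, h2]; exact ⟨rfl, rfl⟩
  · right; rw [h1, h2]; exact ⟨rfl, rfl⟩

/-- An element of `D22` commuting with the elements of order three of `M22` commuting with `zP` has order at most 2. -/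
theorem sq_of_comm {g : Equiv.Perm GolayPt} (hg : g ∈ D22)
    (hc : ∀ d ∈ Spor.M22, d * d * d = 1 → d * pm zP = pm zP * d → g * d = d * g) : g * g = 1 := by
  have hd : ∀ d ∈ [d0, d1, d2], g * pm d = pm d * g := by
    intro d hd
    have h1 := List.all_eq_true.1 d_ok d hd
    rw [Bool.and_eq_true, Bool.and_eq_true] at h1
    have hp := isPerm_of_ok (ok_of_ok22 h1.1.1)
    refine hc _ (pm_M22 h1.1.1) ?_ ?_
    · have h2 := El.pr_of_weq (okl_three hp hp hp) rfl h1.2
      rwa [El.pr_cons, El.pr_cons, El.pr_one, El.pr_nil, ← mul_assoc] at h2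
    · exact eq_two hp (isPerm_of_ok InvM22.ok_z) (isPerm_of_ok InvM22.ok_z) hp h1.1.2
  have hw : ∀ w ∈ dW, g * pr w = pr w * g := by
    intro w hw
    have h1 := List.all_eq_true.1 dW_mem w hw
    clear hw
    induction w with
    | nil => rw [El.pr_nil, mul_one, one_mul]
    | cons d w ih =>
      rw [List.all_cons, Bool.and_eq_true] at h1
      obtain ⟨x, hx, h2⟩ := List.any_eq_true.1 h1.1
      have h3 := Nat.eq_of_beq_eq_true h2
      rw [El.pr_cons, ← mul_assoc, h3, hd x hx, mul_assoc, ih h1.2, mul_assoc]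
  have hv : ∀ w ∈ dW, ∀ i < 24, val g (ev w i) = ev w (val g i) := by
    intro w hw' i hi
    have ho := List.all_eq_true.1 dW_okl w hw'
    rw [← El.val_pr ho hi, ← El.val_mul, hw w hw', El.val_mul, El.val_pr ho (El.val_lt _ _)]
  have hev : ∀ w ∈ dW, ∀ i < 24, ev w i < 24 := by
    intro w hw' i hi
    rw [← El.val_pr (List.all_eq_true.1 dW_okl w hw') hi]
    exact El.val_lt _ _
  have h23 := D22_val hg
  -- the base points
  have hbase : ∀ b < 24, b ≠ 0 → b ≠ 23 → baseT b = true → val g (val g b) = b := by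
    intro b hb hb0 hb23 ht
    have h1 := List.all_eq_true.1 ht _ (El.mem_pts (El.val_lt g b))
    rw [Bool.or_eq_true, Bool.or_eq_true, Nat.beq_eq, Nat.beq_eq] at h1
    rcases h1 with (h1 | h1) | h1
    · exfalso
      rcases h23 with h | h
      · exact hb0 (El.val_inj hb (by norm_num) (h1.trans h.2.symm))
      · exact hb23 (El.val_inj hb (by norm_num) (h1.trans h.1.symm))
    · exfalso
      rcases h23 with h | h
      · exact hb23 (El.val_inj hb (by norm_num) (h1.trans h.1.symm))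
      · exact hb0 (El.val_inj hb (by norm_num) (h1.trans h.2.symm))
    · obtain ⟨w, hw', h2⟩ := List.any_eq_true.1 h1
      have h3 := hv w hw' b hb
      rw [Bool.or_eq_true, Bool.and_eq_true, Bool.and_eq_true, Bool.not_eq_true', Nat.beq_eq, Nat.beq_eq,
        Nat.beq_eq] at h2
      rcases h2 with ⟨h4, h5⟩ | ⟨h4, h5⟩
      · exfalso
        rw [h4] at h3
        rw [← h3, Nat.beq_refl] at h5
        cases h5
      · rw [h4] at h3
        rw [h3, h5]
  have hb := base_ok
  rw [Bool.and_eq_true, Bool.and_eq_true] at hb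
  have hb1 := hbase 1 (by norm_num) (by norm_num) (by norm_num) hb.1.1
  have hb4 := hbase 4 (by norm_num) (by norm_num) (by norm_num) hb.1.2
  have hb8 := hbase 8 (by norm_num) (by norm_num) (by norm_num) hb.2
  apply El.ext_val
  intro i hi
  rw [El.val_mul, El.val_one hi]
  have h1 := List.all_eq_true.1 cover_ok _ (El.mem_pts hi)
  rw [Bool.or_eq_true, Bool.or_eq_true, Nat.beq_eq, Nat.beq_eq] at h1
  rcases h1 with (rfl | rfl) | h1
  · rcases h23 with h | h
    · rw [h.2, h.2]
    · rw [h.2, h.1]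
  · rcases h23 with h | h
    · rw [h.1, h.1]
    · rw [h.1, h.2]
  · obtain ⟨w, hw', h2⟩ := List.any_eq_true.1 h1
    rw [Bool.or_eq_true, Bool.or_eq_true, Nat.beq_eq, Nat.beq_eq, Nat.beq_eq] at h2
    rcases h2 with (h2 | h2) | h2
    · rw [← h2, hv w hw' _ (by norm_num), hv w hw' _ (El.val_lt _ _), hb1]
    · rw [← h2, hv w hw' _ (by norm_num), hv w hw' _ (El.val_lt _ _), hb4]
    · rw [← h2, hv w hw' _ (by norm_num), hv w hw' _ (El.val_lt _ _), hb8]

/-! ### A Sylow 2-subgroup -/

theorem uP_nrm : nrm uP = true := by decide +kernel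
theorem vP_nrm : nrm vP = true := by decide +kernel

theorem ok22_of_nrm {n : ℕ} (h : nrm n = true) : ok22 n = true := by
  unfold nrm at h
  rw [Bool.and_eq_true] at h
  exact h.1

theorem uP_sq : pm uP * pm uP = 1 :=
  eq_nil (isPerm_of_ok (ok_of_ok22 (ok22_of_nrm uP_nrm))) (isPerm_of_ok (ok_of_ok22 (ok22_of_nrm uP_nrm)))
    (by decide +kernel)

theorem vP_sq : pm vP * pm vP = 1 :=
  eq_nil (isPerm_of_ok (ok_of_ok22 (ok22_of_nrm vP_nrm))) (isPerm_of_ok (ok_of_ok22 (ok22_of_nrm vP_nrm)))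
    (by decide +kernel)

theorem uv_four : pm uP * pm vP * (pm uP * pm vP) * (pm uP * pm vP * (pm uP * pm vP)) = 1 := by
  have h := El.pr_of_weq (l := [uP, vP, uP, vP, uP, vP, uP, vP]) (m := []) (by decide +kernel) rfl
    (by decide +kernel)
  simp only [El.pr_cons, El.pr_nil, mul_one] at h
  rw [← h]; group

/-- coset representatives of `E` in the Sylow subgroup -/
def cosL : List (List ℕ) := [[], [uP], [vP], [uP, vP], [vP, uP], [uP, vP, uP], [vP, uP, vP], [uP, vP, uP, vP]]

def sylL : List (List ℕ) := WL.flatMap fun P => cosL.map fun l => P :: l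

theorem sylL_okl : sylL.all okl = true := by decide +kernel

theorem sylL_dist : El.dist sylL = true := by decide +kernel

/-- the subgroup `E ⟨uP, vP⟩` -/
def P22 : Subgroup (Equiv.Perm GolayPt) := Subgroup.closure ((E : Set (Equiv.Perm GolayPt)) ∪ {pm uP, pm vP})

theorem uP_mem : pm uP ∈ P22 := Subgroup.subset_closure (Or.inr (Or.inl rfl))

theorem vP_mem : pm vP ∈ P22 := Subgroup.subset_closure (Or.inr (Or.inr rfl))

theorem E_le_P22 : E ≤ P22 := fun _ h => Subgroup.subset_closure (Or.inl h)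

theorem P22_le : P22 ≤ Spor.M22 := by
  unfold P22
  rw [Subgroup.closure_le]
  rintro x (hx | rfl | rfl)
  · exact E_le hx
  · exact pm_M22 (ok22_of_nrm uP_nrm)
  · exact pm_M22 (ok22_of_nrm vP_nrm)

theorem syl_card : 128 ≤ Nat.card P22 := by
  have h := El.length_le_card (L := sylL) (List.all_eq_true.1 sylL_okl) sylL_dist
    (P22 : Set (Equiv.Perm GolayPt)) (by
      intro l hl
      unfold sylL at hl
      rw [List.mem_flatMap] at hl
      obtain ⟨P, hP, hl⟩ := hl
      obtain ⟨m, hm, rfl⟩ := List.mem_map.1 hl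
      rw [El.pr_cons]
      refine P22.mul_mem (E_le_P22 (pm_mem_E hP)) ?_
      unfold cosL at hm
      simp only [List.mem_cons, List.not_mem_nil, or_false] at hm
      rcases hm with rfl | rfl | rfl | rfl | rfl | rfl | rfl | rfl
      · rw [El.pr_nil]; exact one_mem _
      · rw [El.pr_one]; exact uP_mem
      · rw [El.pr_one]; exact vP_mem
      · simp only [El.pr_cons, El.pr_nil, mul_one]; exact mul_mem uP_mem vP_mem
      · simp only [El.pr_cons, El.pr_nil, mul_one]; exact mul_mem vP_mem uP_mem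
      · simp only [El.pr_cons, El.pr_nil, mul_one]; exact mul_mem uP_mem (mul_mem vP_mem uP_mem)
      · simp only [El.pr_cons, El.pr_nil, mul_one]; exact mul_mem vP_mem (mul_mem uP_mem vP_mem)
      · simp only [El.pr_cons, El.pr_nil, mul_one]
        exact mul_mem uP_mem (mul_mem vP_mem (mul_mem uP_mem vP_mem)))
  exact h

end Cfsg.Agent.OddHalf.D9.M22

end

-- merged: Cfsg.Agent.OddHalf.D9.M22.EDataM22
section

/-!
# The facts `EData` for `M22`

`edata : EData Spor.M22 E22 a22 b22`.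
-/

set_option autoImplicit false
set_option Elab.async false

namespace Cfsg.Agent.OddHalf.D9.M22.EDataM22

open Cfsg Cfsg.Agent.SporadicA.GolayBase Cfsg.Agent.SporadicA.GolayPerm
open Cfsg.Agent.SporadicStructure.M24El Cfsg.Agent.KFacts.MM
open Cfsg.Agent.KFacts.MM.El (pm pr weq okl)
open Cfsg.Agent.KFacts.MM.Data (WL zP)
open Cfsg.Agent.OddHalf.D9.M22.Data (uP vP)
open Cfsg.Agent.J4Type.Aut22 (D22)
open Cfsg.Agent.OddHalf.D9.M22 Cfsg.Agent.OddHalf.D9.M22.CovFour Cfsg.Agent.OddHalf.D9.M22.Lift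
open Cfsg.Agent.OddHalf.D9.CovTwo (OutTwo)

/-- the subgroup `E` of `M22` -/
def E22 : Subgroup Spor.M22 := E.subgroupOf Spor.M22

theorem mem_E22 {x : Spor.M22} : x ∈ E22 ↔ (x : Equiv.Perm GolayPt) ∈ E := Iff.rfl

noncomputable def a22 : Spor.M22 := ⟨pm uP, pm_M22 (ok22_of_nrm uP_nrm)⟩
noncomputable def b22 : Spor.M22 := ⟨pm vP, pm_M22 (ok22_of_nrm vP_nrm)⟩

theorem isPerm_u : isPerm uP = true := Cfsg.Agent.KFacts.MM.InvM22.isPerm_of_ok (ok_of_ok22 (ok22_of_nrm uP_nrm))
theorem isPerm_v : isPerm vP = true := Cfsg.Agent.KFacts.MM.InvM22.isPerm_of_ok (ok_of_ok22 (ok22_of_nrm vP_nrm))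

/-- words not in `E` -/
theorem not_mem_E {l : List ℕ} (hl : okl l = true) (h : (WL.all fun P => !(weq [P] l)) = true) : pr l ∉ E := by
  rintro ⟨P, hP, h1⟩
  have h2 := List.all_eq_true.1 h P hP
  rw [Bool.not_eq_true'] at h2
  refine El.pr_ne (okl_one (perm_of_WL hP)) hl h2 ?_
  rw [El.pr_one]
  exact h1

theorem ab_four : (a22 * b22) ^ 4 = 1 := by
  apply Subtype.ext
  rw [show (4 : ℕ) = 2 + 2 from rfl, pow_add, pow_two]
  exact uv_four

theorem ab_pow_mod (i : ℕ) : (a22 * b22) ^ i = (a22 * b22) ^ (i % 4) := by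
  conv_lhs => rw [← Nat.div_add_mod i 4, pow_add, pow_mul, ab_four, one_pow, one_mul]

theorem n1 : pr [uP, vP] ∉ E := not_mem_E (by decide +kernel) (by decide +kernel)
theorem n2 : pr [uP, vP, uP, vP] ∉ E := not_mem_E (by decide +kernel) (by decide +kernel)
theorem n3 : pr [uP, vP, uP, vP, uP, vP] ∉ E := not_mem_E (by decide +kernel) (by decide +kernel)
theorem r0 : pr [uP] ∉ E := not_mem_E (by decide +kernel) (by decide +kernel)
theorem r1 : pr [uP, vP, uP] ∉ E := not_mem_E (by decide +kernel) (by decide +kernel)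
theorem r2 : pr [uP, vP, uP, vP, uP] ∉ E := not_mem_E (by decide +kernel) (by decide +kernel)
theorem r3 : pr [uP, vP, uP, vP, uP, vP, uP] ∉ E := not_mem_E (by decide +kernel) (by decide +kernel)

theorem rot (i : ℕ) (h : (a22 * b22) ^ i ∈ E22) : 4 ∣ i := by
  rw [ab_pow_mod] at h
  rw [mem_E22] at h
  have h4 : i % 4 < 4 := Nat.mod_lt _ (by norm_num)
  rcases hi : i % 4 with _ | _ | _ | _ | n
  · exact Nat.dvd_of_mod_eq_zero hi
  · exfalso
    rw [hi] at h
    apply n1
    have e : pr [uP, vP] = (((a22 * b22) ^ (0 + 1) : Spor.M22) : Equiv.Perm GolayPt) := by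
      simp only [El.pr_cons, El.pr_nil, mul_one, zero_add, pow_one]
      rfl
    rw [e]; exact h
  · exfalso
    rw [hi] at h
    apply n2
    have e : pr [uP, vP, uP, vP] = (((a22 * b22) ^ (0 + 1 + 1) : Spor.M22) : Equiv.Perm GolayPt) := by
      simp only [El.pr_cons, El.pr_nil, mul_one, zero_add, pow_succ, pow_zero, one_mul, Subgroup.coe_mul]
      simp only [a22, b22, mul_assoc]
    rw [e]; exact h
  · exfalso
    rw [hi] at h
    apply n3
    have e : pr [uP, vP, uP, vP, uP, vP] = (((a22 * b22) ^ (0 + 1 + 1 + 1) : Spor.M22) : Equiv.Perm GolayPt) := by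
      simp only [El.pr_cons, El.pr_nil, mul_one, zero_add, pow_succ, pow_zero, one_mul, Subgroup.coe_mul]
      simp only [a22, b22, mul_assoc]
    rw [e]; exact h
  · omega

theorem refl (i : ℕ) : (a22 * b22) ^ i * a22 ∉ E22 := by
  intro h
  rw [ab_pow_mod, mem_E22] at h
  have h4 : i % 4 < 4 := Nat.mod_lt _ (by norm_num)
  rcases hi : i % 4 with _ | _ | _ | _ | n
  · rw [hi] at h
    apply r0
    have e : pr [uP] = (((a22 * b22) ^ 0 * a22 : Spor.M22) : Equiv.Perm GolayPt) := by
      simp only [El.pr_cons, El.pr_nil, mul_one, pow_zero, one_mul]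
      rfl
    rw [e]; exact h
  · rw [hi] at h
    apply r1
    have e : pr [uP, vP, uP] = (((a22 * b22) ^ (0 + 1) * a22 : Spor.M22) : Equiv.Perm GolayPt) := by
      simp only [El.pr_cons, El.pr_nil, mul_one, zero_add, pow_one, Subgroup.coe_mul]
      simp only [a22, b22, mul_assoc]
    rw [e]; exact h
  · rw [hi] at h
    apply r2
    have e : pr [uP, vP, uP, vP, uP] = (((a22 * b22) ^ (0 + 1 + 1) * a22 : Spor.M22) : Equiv.Perm GolayPt) := by
      simp only [El.pr_cons, El.pr_nil, mul_one, zero_add, pow_succ, pow_zero, one_mul, Subgroup.coe_mul]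
      simp only [a22, b22, mul_assoc]
    rw [e]; exact h
  · rw [hi] at h
    apply r3
    have e : pr [uP, vP, uP, vP, uP, vP, uP] =
        (((a22 * b22) ^ (0 + 1 + 1 + 1) * a22 : Spor.M22) : Equiv.Perm GolayPt) := by
      simp only [El.pr_cons, El.pr_nil, mul_one, zero_add, pow_succ, pow_zero, one_mul, Subgroup.coe_mul]
      simp only [a22, b22, mul_assoc]
    rw [e]; exact h
  · omega

theorem odd (S : Subgroup Spor.M22) (hE : E22 ≤ S) (ha : a22 ∈ S) (hb : b22 ∈ S) (h2 : IsPGroup 2 ↥S) :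
    Odd S.index := by
  have hfin : Finite Spor.M22 := inferInstance
  have h1 : P22 ≤ S.map Spor.M22.subtype := by
    unfold P22
    rw [Subgroup.closure_le]
    rintro x (hx | rfl | rfl)
    · exact ⟨⟨x, E_le hx⟩, hE hx, rfl⟩
    · exact ⟨a22, ha, rfl⟩
    · exact ⟨b22, hb, rfl⟩
  have h3 : 128 ≤ Nat.card S := by
    have h4 := Subgroup.card_le_of_le h1
    rw [Nat.card_congr (S.equivMapOfInjective Spor.M22.subtype Spor.M22.subtype_injective).toEquiv]
    exact le_trans syl_card h4
  obtain ⟨n, hn⟩ := IsPGroup.iff_card.1 h2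
  have h5 : 7 ≤ n := by
    by_contra h
    have h6 : 2 ^ n ≤ 2 ^ 6 := Nat.pow_le_pow_right (by norm_num) (by omega)
    rw [← hn] at h6
    omega
  have h6 := S.card_mul_index
  rw [Cfsg.Agent.SporadicA.MathieuRecog.card_M22, hn] at h6
  obtain ⟨m, rfl⟩ := Nat.exists_eq_add_of_le h5
  by_contra hodd
  rw [Nat.not_odd_iff_even] at hodd
  obtain ⟨k, hk⟩ := hodd
  rw [hk, pow_add] at h6
  have h7 : 256 ∣ 443520 := ⟨2 ^ m * k, by rw [← h6]; ring⟩
  exact absurd h7 (by decide)

theorem one (x y : Spor.M22) (hx : x * x = 1) (hx1 : x ≠ 1) (hy : y * y = 1) (hy1 : y ≠ 1) : IsConj x y := by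
  have key : ∀ u : Spor.M22, u * u = 1 → u ≠ 1 → IsConj (⟨pm zP, E_le zP_mem⟩ : Spor.M22) u := by
    intro u hu hu1
    obtain ⟨g, hg, e⟩ := InvM22.inv22 u u.2 (congrArg Subtype.val hu) (fun h => hu1 (Subtype.ext h))
    rw [isConj_iff]
    exact ⟨⟨g, hg⟩, Subtype.ext e.symm⟩
  exact (key x hx hx1).symm.trans (key y hy hy1)

/-- an automorphism of `M22` as an element of `D22` -/
theorem exists_D (β : MulAut Spor.M22) : ∃ h ∈ D22, ∀ x : Spor.M22,
    (β x : Equiv.Perm GolayPt) = h * x * h⁻¹ := Cfsg.Agent.J4Type.Aut22.exists_conj β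

theorem not_mem_of_outer {β : MulAut Spor.M22} {h : Equiv.Perm GolayPt}
    (hβ : ∀ x : Spor.M22, (β x : Equiv.Perm GolayPt) = h * x * h⁻¹) (hout : ∀ x, β ≠ MulAut.conj x) :
    h ∉ Spor.M22 := by
  intro hm
  apply hout ⟨h, hm⟩
  ext x
  rw [hβ]
  rfl

theorem eq_of_conj {g h : Equiv.Perm GolayPt} (hg : g ∈ D22) (hh : h ∈ D22)
    (e : ∀ x : Spor.M22, g * x * g⁻¹ = h * x * h⁻¹) : g = h := by
  have h1 : h⁻¹ * g = 1 := by
    refine Cfsg.Agent.J4Type.Aut22.eq_one_of_centralizes (D22.mul_mem (D22.inv_mem hh) hg) fun x => ?_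
    calc h⁻¹ * g * (x : Equiv.Perm GolayPt) * (h⁻¹ * g)⁻¹ = h⁻¹ * (g * x * g⁻¹) * h := by group
      _ = h⁻¹ * (h * x * h⁻¹) * h := by rw [e]
      _ = x := by group
  rw [eq_comm, ← inv_mul_eq_one]; exact h1

theorem outer (β : MulAut Spor.M22) (h2 : β * β = 1) (hout : ∀ x, β ≠ MulAut.conj x) :
    ∃ g : Spor.M22, ∀ x ∈ E22, β (g * x * g⁻¹) = g * x * g⁻¹ := by
  obtain ⟨h, hh, hβ⟩ := exists_D β
  have hn := not_mem_of_outer hβ hout
  have hsq : h * h = 1 := by
    refine eq_of_conj (D22.mul_mem hh hh) D22.one_mem fun x => ?_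
    have h3 : ((β * β) x : Equiv.Perm GolayPt) = x := by rw [h2]; rfl
    rw [MulAut.mul_apply, hβ, hβ] at h3
    calc h * h * (x : Equiv.Perm GolayPt) * (h * h)⁻¹ = h * (h * x * h⁻¹) * h⁻¹ := by group
      _ = x := h3
      _ = 1 * x * 1⁻¹ := by group
  obtain ⟨g, hg, hc⟩ := exists_outer hh hn hsq
  refine ⟨⟨g, hg⟩, fun x hx => ?_⟩
  apply Subtype.ext
  rw [hβ]
  have h3 := hc x hx
  show h * (g * x * g⁻¹) * h⁻¹ = g * (x : Equiv.Perm GolayPt) * g⁻¹
  calc h * (g * (x : Equiv.Perm GolayPt) * g⁻¹) * h⁻¹ = g * ((g⁻¹ * h * g) * x) * (g⁻¹ * h⁻¹) := by group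
    _ = g * (x * (g⁻¹ * h * g)) * (g⁻¹ * h⁻¹) := by rw [h3]
    _ = g * (x : Equiv.Perm GolayPt) * g⁻¹ := by group

theorem ord3 : OrdThreeX Spor.M22 := by
  intro t ht ht1 β hβ3 hβ2
  obtain ⟨h, hh, hβ⟩ := exists_D β
  obtain ⟨g, hg, e⟩ := InvM22.inv22 t t.2 (congrArg Subtype.val ht) (fun h => ht1 (Subtype.ext h))
  have hht : h * h = t := by
    refine eq_of_conj (D22.mul_mem hh hh) (Cfsg.Agent.J4Type.Aut22.M22_le_D22 t.2) fun x => ?_
    have h3 := congrArg Subtype.val (hβ2 x)
    rw [hβ, hβ] at h3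
    calc h * h * (x : Equiv.Perm GolayPt) * (h * h)⁻¹ = h * (h * x * h⁻¹) * h⁻¹ := by group
      _ = t * x * (t : Equiv.Perm GolayPt)⁻¹ := h3
  have hsq : (g⁻¹ * h * g) * (g⁻¹ * h * g) = 1 := by
    apply sq_of_comm
    · exact D22.mul_mem (D22.mul_mem (D22.inv_mem (Cfsg.Agent.J4Type.Aut22.M22_le_D22 hg)) hh)
        (Cfsg.Agent.J4Type.Aut22.M22_le_D22 hg)
    · intro d hd hd3 hdz
      have hy : g * d * g⁻¹ ∈ Spor.M22 := Spor.M22.mul_mem (Spor.M22.mul_mem hg hd) (Spor.M22.inv_mem hg)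
      have h3 := hβ3 ⟨g * d * g⁻¹, hy⟩ (by
        apply Subtype.ext
        show (g * d * g⁻¹) ^ 3 = 1
        calc (g * d * g⁻¹) ^ 3 = g * (d * d * d) * g⁻¹ := by rw [pow_succ, pow_two]; group
          _ = 1 := by rw [hd3]; group) (by
        apply Subtype.ext
        show g * d * g⁻¹ * t = t * (g * d * g⁻¹)
        rw [e]
        calc g * d * g⁻¹ * (g * pm zP * g⁻¹) = g * (d * pm zP) * g⁻¹ := by group
          _ = g * (pm zP * d) * g⁻¹ := by rw [hdz]
          _ = g * pm zP * g⁻¹ * (g * d * g⁻¹) := by group)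
      have h4 := congrArg Subtype.val h3
      rw [hβ] at h4
      have h5 : h * (g * d * g⁻¹) * h⁻¹ = g * d * g⁻¹ := h4
      have h6 : h * (g * d * g⁻¹) = g * d * g⁻¹ * h := by
        calc h * (g * d * g⁻¹) = h * (g * d * g⁻¹) * h⁻¹ * h := by group
          _ = g * d * g⁻¹ * h := by rw [h5]
      calc g⁻¹ * h * g * d = g⁻¹ * (h * (g * d * g⁻¹)) * g := by group
        _ = g⁻¹ * (g * d * g⁻¹ * h) * g := by rw [h6]
        _ = d * (g⁻¹ * h * g) := by group
  apply ht1
  apply Subtype.ext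
  rw [← hht]
  show h * h = 1
  calc h * h = g * ((g⁻¹ * h * g) * (g⁻¹ * h * g)) * g⁻¹ := by group
    _ = 1 := by rw [hsq]; group

theorem out2 : OutTwo (K := Spor.M22) := by
  intro α β hα hβ
  obtain ⟨g, hg, eg⟩ := exists_D α
  obtain ⟨h, hh, eh⟩ := exists_D β
  have hgn := not_mem_of_outer eg hα
  have hhn := not_mem_of_outer eh hβ
  rw [Cfsg.Agent.J4Type.Aut22.mem_M22_iff_D22] at hgn hhn
  have hm : g * h ∈ Spor.M22 := by
    rw [Cfsg.Agent.J4Type.Aut22.mem_M22_iff_D22]
    refine ⟨D22.mul_mem hg hh, ?_⟩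
    rcases ((Cfsg.Agent.J4Type.Aut22.mem_D22_iff g).1 hg).2 with h1 | h1
    · exact absurd ⟨hg, h1.1⟩ hgn
    rcases ((Cfsg.Agent.J4Type.Aut22.mem_D22_iff h).1 hh).2 with h2 | h2
    · exact absurd ⟨hh, h2.1⟩ hhn
    rw [Equiv.Perm.mul_apply, h2.1, h1.2]
  refine ⟨⟨g * h, hm⟩, ?_⟩
  apply MulEquiv.ext
  intro x
  apply Subtype.ext
  rw [MulAut.mul_apply, eg, eh]
  show g * (h * x * h⁻¹) * g⁻¹ = g * h * (x : Equiv.Perm GolayPt) * (g * h)⁻¹
  group

theorem edata : EData Spor.M22 E22 a22 b22 where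
  sq := fun x hx => Subtype.ext (E_sq (mem_E22.1 hx))
  aE := fun x hx => (nrm_pm uP_nrm).2 x hx
  bE := fun x hx => (nrm_pm vP_nrm).2 x hx
  aa := Subtype.ext uP_sq
  bb := Subtype.ext vP_sq
  ab := ab_four
  rot := rot
  refl := refl
  odd := odd
  four := by
    have m1 : pm 961365507626256404119956257276790816 ∈ E := pm_mem_E (by decide +kernel)
    have m2 : pm 972512676110088067912772961567868960 ∈ E := pm_mem_E (by decide +kernel)
    refine ⟨⟨_, E_le m1⟩, m1, ⟨_, E_le m2⟩, m2, ?_, ?_, ?_⟩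
    · intro h
      have h1 : pr [961365507626256404119956257276790816] = pr [] := by
        rw [El.pr_one, El.pr_nil]; exact congrArg Subtype.val h
      exact El.pr_ne (by decide +kernel) (by decide +kernel) (by decide +kernel) h1
    · intro h
      have h1 : pr [972512676110088067912772961567868960] = pr [] := by
        rw [El.pr_one, El.pr_nil]; exact congrArg Subtype.val h
      exact El.pr_ne (by decide +kernel) (by decide +kernel) (by decide +kernel) h1
    · intro h
      have h1 : pr [961365507626256404119956257276790816] = pr [972512676110088067912772961567868960] := by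
        rw [El.pr_one, El.pr_one]; exact congrArg Subtype.val h
      exact El.pr_ne (by decide +kernel) (by decide +kernel) (by decide +kernel) h1
  one := one
  outer := outer
  ord3 := ord3
  out2 := out2

theorem exists_edata : ∃ (E : Subgroup Spor.M22) (a b : Spor.M22), EData Spor.M22 E a b := ⟨_, _, _, edata⟩

end Cfsg.Agent.OddHalf.D9.M22.EDataM22

end
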