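import Mathlib.Data.Nat.Notation
import Cfsg.Agent.OddHalf.D9.M22.EDataM22
import Cfsg.Agent.OddHalf.D9.M22.CovPair

-- merged: Cfsg.Agent.OddHalf.D9.M22.DataU
section

/-!
# Packed elements of `M22` commuting with `zP`, involutions of `N(WL)`
-/

set_option autoImplicit false

namespace Cfsg.Agent.OddHalf.D9.M22.DataU

/-- elements of `C(zP)` mapping 4 to the moved points of `zP` -/
def R1 : List ℕ := [
  984818244535754528103549039458486304,
  965128854020860192151391391390468128,
  963721886883755259286232606933354528,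
  979121071158219704299181131031480352,
  968708902336673183175954409307867168,
  967812279691448225500382947153381408,
  971592882964418941354553515258775584,
  970499966350631336865513127433832480,
  976448692869377735270425038196672544,
  981818691054096003685363657089320992,
  972512676110088067912772961567868960,
  966182099583441531322624363496310816,
  983548720921252936276249910206105632,
  975346028712660580592452217730074656,
  980224387687010295957922729495201824,
  961365507626256404119956257276790816]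

/-- elements of `C(zP)` fixing 4 and mapping 1 to 1, 2, 3, 5, 14, 17 -/
def R2 : List ℕ := [
  984818244535754528103549039458486304,
  984721978136738731986858641841030208,
  984806823288735101514964346924480608,
  984194076295974029493954907895547040,
  984734650921275015040877327156284864,
  984239680340857133004336663034369568]

/-- elements of `C(zP)` fixing 4, 1 and mapping 3 to 3, 5, 14, 17 -/
def R3 : List ℕ := [
  984818244535754528103549039458486304,
  984202951082164080105044112956360736,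
  984724508489452699215480746259449888,
  984235865005994746954145143334668320]

/-- involutions of the normaliser of `WL` -/
def nL : List ℕ := [
  983553010088178266402939871779325984,
  974338656214362718975024378963690560,
  968571400229892424521567095052929056,
  962286864140653867024520594739169312,
  976990105829392847739289005721748544,
  971833682212383564744611475376015392,
  984404951986650291017642929327245344,
  974422238081544939122441376219924512,
  980599603407022916402920467664013344]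

end Cfsg.Agent.OddHalf.D9.M22.DataU

end

-- merged: Cfsg.Agent.OddHalf.D9.M22.UFact
section

/-!
# `C(zP)` maps `aP` to `aP` or `aP zP` (fact (U) for `2.M22`) (helper278)

* `map_a` : every `g ∈ C(zP)` in `M22` conjugates `aP` to `aP` or `aP zP`;
* `odd_comm` : the elements of odd order of `C(zP)` commute with `aP`;
* `autD` : the automorphism of `M22` induced by an element of `D22`;
* `fixv`, `fix2`, `line`, `tran`, `eight`, `cent` : the fields of `CovPair.PData`.
-/

set_option autoImplicit false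
set_option Elab.async false

namespace Cfsg.Agent.OddHalf.D9.M22.UFact

open Cfsg Cfsg.Agent.SporadicA.GolayBase Cfsg.Agent.SporadicA.GolayPerm
open Cfsg.Agent.SporadicStructure.M24El Cfsg.Agent.KFacts.MM
open Cfsg.Agent.KFacts.MM.El (pm pr ev val weq okl pts)
open Cfsg.Agent.KFacts.MM.Data (WL zP kW)
open Cfsg.Agent.OddHalf.D9.M22.Data (aP bP)
open Cfsg.Agent.OddHalf.D9.M22.DataU (R1 R2 R3 nL)
open Cfsg.Agent.J4Type.Aut22 (D22)
open Cfsg.Agent.KFacts.MM.InvM22 (isPerm_of_ok)
open Cfsg.Agent.OddHalf.D9.M22 Cfsg.Agent.OddHalf.D9.M22.EDataM22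
open Cfsg.Agent.SporadicA.M24Frames (Adm smul_mem_octads O0 O0_mem eq_of_eq_on)
open scoped Pointwise

theorem okl_four {P Q R S : ℕ} (hP : isPerm P = true) (hQ : isPerm Q = true) (hR : isPerm R = true)
    (hS : isPerm S = true) : okl [P, Q, R, S] = true := by
  unfold El.okl
  rw [List.all_cons, List.all_cons, List.all_cons, List.all_cons, List.all_nil, hP, hQ, hR, hS]
  rfl

theorem eq_of_val {a : Fin 7 → GolayPt} (ha : Adm a) {g h : Equiv.Perm GolayPt} (hg : g ∈ M24)
    (hh : h ∈ M24) (H : ∀ i, val g (idx (a i)) = val h (idx (a i))) : g = h := by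
  apply eq_of_eq_on ha hg hh
  intro i
  have h1 := H i
  unfold El.val at h1
  rw [pt_idx] at h1
  exact idx_injective h1

theorem M22_le24 {g : Equiv.Perm GolayPt} (h : g ∈ Spor.M22) : g ∈ M24 :=
  ((SporadicA.MathieuRecog.mem_M22_iff _).1 h).1

theorem val23 {g : Equiv.Perm GolayPt} (h : g ∈ Spor.M22) : val g 23 = 23 := by
  have h1 := ((SporadicA.MathieuRecog.mem_M22_iff _).1 h).2.1
  show idx (g none) = 23
  rw [h1]
  rfl

theorem val0 {g : Equiv.Perm GolayPt} (h : g ∈ Spor.M22) : val g 0 = 0 := by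
  have h1 := ((SporadicA.MathieuRecog.mem_M22_iff _).1 h).2.2
  show idx (g (some 0)) = 0
  rw [h1]
  rfl

theorem isPerm_z : isPerm zP = true := isPerm_of_ok InvM22.ok_z
theorem isPerm_a : isPerm aP = true := isPerm_of_ok ok_aP

/-! ### `g ∈ C(zP)` -/

/-- `g ∈ M22` commutes with `zP` -/
def Cz (g : Equiv.Perm GolayPt) : Prop := g ∈ Spor.M22 ∧ g * pm zP = pm zP * g

/-- `g` maps `aP` to `aP` or `aP zP` -/
def Good (g : Equiv.Perm GolayPt) : Prop := g * pm aP = pm aP * g ∨ g * pm aP = pm aP * pm zP * g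

theorem Cz.mul {g h : Equiv.Perm GolayPt} (hg : Cz g) (hh : Cz h) : Cz (g * h) :=
  ⟨Spor.M22.mul_mem hg.1 hh.1, by rw [mul_assoc, hh.2, ← mul_assoc, hg.2, mul_assoc]⟩

theorem Cz.inv {g : Equiv.Perm GolayPt} (hg : Cz g) : Cz g⁻¹ :=
  ⟨Spor.M22.inv_mem hg.1, by rw [inv_mul_eq_iff_eq_mul, ← mul_assoc, hg.2, mul_inv_cancel_right]⟩

theorem az_comm : pm aP * pm zP = pm zP * pm aP := aP_comm zP_mem

theorem z_sq : pm zP * pm zP = 1 := InvM22.pm_sq

/-- `Good` is closed under `h g` -/
theorem Good.mul {g h : Equiv.Perm GolayPt} (hg : Good g) (hh : Good h) (hgz : Cz g) : Good (g * h) := by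
  rcases hh with hh | hh <;> rcases hg with hg | hg
  · left; rw [mul_assoc, hh, ← mul_assoc, hg, mul_assoc]
  · right; rw [mul_assoc, hh, ← mul_assoc, hg, mul_assoc]
  · right
    calc g * h * pm aP = g * (h * pm aP) := mul_assoc _ _ _
      _ = g * pm aP * pm zP * h := by rw [hh]; group
      _ = pm aP * (g * pm zP) * h := by rw [hg]; group
      _ = pm aP * pm zP * (g * h) := by rw [hgz.2]; group
  · left
    calc g * h * pm aP = g * (h * pm aP) := mul_assoc _ _ _
      _ = g * pm aP * pm zP * h := by rw [hh]; group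
      _ = pm aP * pm zP * (g * pm zP) * h := by rw [hg]; group
      _ = pm aP * (pm zP * pm zP) * (g * h) := by rw [hgz.2]; group
      _ = pm aP * (g * h) := by rw [z_sq]; group

/-- the test for the tables -/
def tst (P : ℕ) : Bool := ok22 P && weq [P, zP] [zP, P] && (weq [P, aP] [aP, P] || weq [P, aP] [aP, zP, P])

theorem of_tst {P : ℕ} (h : tst P = true) : isPerm P = true ∧ Cz (pm P) ∧ Good (pm P) := by
  unfold tst at h
  rw [Bool.and_eq_true, Bool.and_eq_true, Bool.or_eq_true] at h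
  obtain ⟨⟨h1, h2⟩, h3⟩ := h
  have hp := isPerm_of_ok (ok_of_ok22 h1)
  refine ⟨hp, ⟨pm_M22 h1, eq_two hp isPerm_z isPerm_z hp h2⟩, ?_⟩
  rcases h3 with h3 | h3
  · left; exact eq_two hp isPerm_a isPerm_a hp h3
  · right
    have h4 := El.pr_of_weq (okl_two hp isPerm_a) (okl_three isPerm_a isPerm_z hp) h3
    rwa [El.pr_cons, El.pr_one, El.pr_cons, El.pr_cons, El.pr_one, ← mul_assoc] at h4

theorem R1_tst : R1.all tst = true := by decide +kernel
theorem R2_tst : (R2.all fun P => tst P && Nat.beq (papp P 4) 4) = true := by decide +kernel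
theorem R3_tst : (R3.all fun P => tst P && Nat.beq (papp P 4) 4 && Nat.beq (papp P 1) 1) = true := by
  decide +kernel

/-- the moved points -/
theorem cov1 : (pts.all fun j => Nat.beq (papp zP j) j || R1.any fun P => Nat.beq (papp P 4) j) = true := by
  decide +kernel

/-- the fixed points -/
theorem cov2 : (pts.all fun j => !(Nat.beq (papp zP j) j) || Nat.beq j 23 || Nat.beq j 0 ||
    R2.any fun P => Nat.beq (papp P 1) j) = true := by decide +kernel

theorem cov3 : (pts.all fun j => !(Nat.beq (papp zP j) j) || Nat.beq j 23 || Nat.beq j 0 || Nat.beq j 1 ||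
    Nat.beq j 2 || R3.any fun P => Nat.beq (papp P 3) j) = true := by decide +kernel

/-- the octads through 23, 0, 4, 22 and 1 or 3 -/
def o1 : ℕ := 12656663
def o3 : ℕ := 12599513

theorem o1_mem : fin o1 ∈ octads :=
  (fin_mem_octads_iff (by norm_num [o1])).2 (by decide +kernel)
theorem o3_mem : fin o3 ∈ octads :=
  (fin_mem_octads_iff (by norm_num [o3])).2 (by decide +kernel)

/-- an element fixing five points of an octad maps the octad to itself -/
theorem oct_map {g : Equiv.Perm GolayPt} (hg : g ∈ M24) {m : ℕ} (hm : fin m ∈ octads) (l : List ℕ)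
    (hl : l.Nodup ∧ l.length = 5 ∧ ∀ i ∈ l, i < 24 ∧ m.testBit i = true) (hf : ∀ i ∈ l, val g i = i)
    {i : ℕ} (hi : i < 24) (him : m.testBit i = true) : m.testBit (val g i) = true := by
  obtain ⟨hnd, hlen, hlm⟩ := hl
  have hmem : ∀ j < 24, m.testBit j = true → pt j ∈ fin m := fun j hj h => by
    rw [mem_fin, idx_pt hj]; exact h
  have hfix : ∀ j ∈ l, g (pt j) = pt j := fun j hj => by
    have h1 := hf j hj
    rw [← El.pt_val, h1]
  have hsub : (l.map pt).toFinset ⊆ g • fin m ∩ fin m := by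
    intro q hq
    rw [List.mem_toFinset, List.mem_map] at hq
    obtain ⟨j, hj, rfl⟩ := hq
    rw [Finset.mem_inter]
    refine ⟨?_, hmem j (hlm j hj).1 (hlm j hj).2⟩
    have h2 := Finset.smul_mem_smul_finset (a := g) (hmem j (hlm j hj).1 (hlm j hj).2)
    have h3 : g • pt j = pt j := hfix j hj
    rwa [h3] at h2
  have hcard : (l.map pt).toFinset.card = 5 := by
    rw [List.toFinset_card_of_nodup, List.length_map, hlen]
    rw [List.nodup_map_iff_inj_on hnd]
    intro x hx y hy hxy
    have h4 := congrArg idx hxy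
    rwa [idx_pt (hlm x hx).1, idx_pt (hlm y hy).1] at h4
  have heq : g • fin m = fin m := by
    apply octad_unique (smul_mem_octads hg hm) hm
    rw [← hcard]
    exact Finset.card_le_card hsub
  have h5 := Finset.smul_mem_smul_finset (a := g) (hmem i hi him)
  rw [heq, mem_fin] at h5
  exact h5

theorem c1 : (pts.all fun j => !(o1.testBit j) || !(Nat.beq (papp zP j) j) || Nat.beq j 23 || Nat.beq j 0 ||
    Nat.beq j 1 || Nat.beq j 2) = true := by decide +kernel

theorem c3 : (pts.all fun j => !(o3.testBit j) || !(Nat.beq (papp zP j) j) || Nat.beq j 23 || Nat.beq j 0 ||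
    Nat.beq j 3 || Nat.beq j 14) = true := by decide +kernel

theorem z4 : papp zP 4 = 22 := by decide +kernel

/-- the frame -/
def fr : Fin 7 → GolayPt := ![none, some 0, some 1, some 2, some 3, some 14, some 4]

theorem adm_fr : Adm fr := ⟨by decide, O0, O0_mem, by decide, by decide⟩

theorem Cz.fixz {g : Equiv.Perm GolayPt} (hg : Cz g) {i : ℕ} (hi : i < 24) :
    papp zP i = i ↔ papp zP (val g i) = val g i := val_fix isPerm_z hg.2 hi

theorem Cz.v23 {g : Equiv.Perm GolayPt} (hg : Cz g) : val g 23 = 23 :=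
  val23 hg.1

theorem Cz.v0 {g : Equiv.Perm GolayPt} (hg : Cz g) : val g 0 = 0 := val0 hg.1

theorem Cz.v22 {g : Equiv.Perm GolayPt} (hg : Cz g) (h4 : val g 4 = 4) : val g 22 = 22 := by
  have h := val_comm isPerm_z hg.2 (i := 4) (by norm_num)
  rwa [h4, z4] at h

/-- `g` fixing 4 and 1 fixes 2 -/
theorem Cz.v2 {g : Equiv.Perm GolayPt} (hg : Cz g) (h4 : val g 4 = 4) (h1 : val g 1 = 1) : val g 2 = 2 := by
  have hM := M22_le24 hg.1
  have h2 := oct_map hM o1_mem [23, 0, 4, 22, 1] (by decide +kernel) (by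
    intro i hi
    simp only [List.mem_cons, List.not_mem_nil, or_false] at hi
    rcases hi with rfl | rfl | rfl | rfl | rfl
    · exact hg.v23
    · exact hg.v0
    · exact h4
    · exact hg.v22 h4
    · exact h1) (i := 2) (by norm_num) (by decide +kernel)
  have h3 := (hg.fixz (i := 2) (by norm_num)).1 (by decide +kernel)
  have h5 := List.all_eq_true.1 c1 _ (El.mem_pts (El.val_lt g 2))
  rw [h2, h3, Nat.beq_refl] at h5
  simp only [Bool.not_true, Bool.false_or, Bool.or_eq_true, Nat.beq_eq] at h5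
  rcases h5 with ((h5 | h5) | h5) | h5
  · exact absurd (El.val_inj (by norm_num) (by norm_num) (h5.trans hg.v23.symm)) (by norm_num)
  · exact absurd (El.val_inj (by norm_num) (by norm_num) (h5.trans hg.v0.symm)) (by norm_num)
  · exact absurd (El.val_inj (by norm_num) (by norm_num) (h5.trans h1.symm)) (by norm_num)
  · exact h5

theorem Cz.v14 {g : Equiv.Perm GolayPt} (hg : Cz g) (h4 : val g 4 = 4) (h1 : val g 3 = 3) : val g 14 = 14 := by
  have hM := M22_le24 hg.1
  have h2 := oct_map hM o3_mem [23, 0, 4, 22, 3] (by decide +kernel) (by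
    intro i hi
    simp only [List.mem_cons, List.not_mem_nil, or_false] at hi
    rcases hi with rfl | rfl | rfl | rfl | rfl
    · exact hg.v23
    · exact hg.v0
    · exact h4
    · exact hg.v22 h4
    · exact h1) (i := 14) (by norm_num) (by decide +kernel)
  have h3 := (hg.fixz (i := 14) (by norm_num)).1 (by decide +kernel)
  have h5 := List.all_eq_true.1 c3 _ (El.mem_pts (El.val_lt g 14))
  rw [h2, h3, Nat.beq_refl] at h5
  simp only [Bool.not_true, Bool.false_or, Bool.or_eq_true, Nat.beq_eq] at h5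
  rcases h5 with ((h5 | h5) | h5) | h5
  · exact absurd (El.val_inj (by norm_num) (by norm_num) (h5.trans hg.v23.symm)) (by norm_num)
  · exact absurd (El.val_inj (by norm_num) (by norm_num) (h5.trans hg.v0.symm)) (by norm_num)
  · exact absurd (El.val_inj (by norm_num) (by norm_num) (h5.trans h1.symm)) (by norm_num)
  · exact h5

/-- an element of `C(zP)` fixing 4, 1, 3 is trivial -/
theorem Cz.eq_one {g : Equiv.Perm GolayPt} (hg : Cz g) (h4 : val g 4 = 4) (h1 : val g 1 = 1)
    (h3 : val g 3 = 3) : g = 1 := by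
  apply eq_of_val adm_fr (M22_le24 hg.1) M24.one_mem
  have key : ∀ i < 24, val g i = i → val g i = val 1 i := fun i hi h => by rw [h, El.val_one hi]
  intro i
  fin_cases i
  · exact key 23 (by norm_num) hg.v23
  · exact key 0 (by norm_num) hg.v0
  · exact key 1 (by norm_num) h1
  · exact key 2 (by norm_num) (hg.v2 h4 h1)
  · exact key 3 (by norm_num) h3
  · exact key 14 (by norm_num) (hg.v14 h4 h3)
  · exact key 4 (by norm_num) h4

theorem val_inv_mul {P : ℕ} {g : Equiv.Perm GolayPt} (hP : isPerm P = true) {i j : ℕ} (hi : i < 24) (_ : j < 24)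
    (h : papp P i = val g j) : val ((pm P)⁻¹ * g) j = i := by
  apply El.val_inj (g := pm P) (El.val_lt _ _) hi
  rw [← El.val_mul, mul_inv_cancel_left, El.val_pm hP hi, h]

theorem good_one : Good 1 := Or.inl (by rw [one_mul, mul_one])

/-- **`C(zP)` maps `aP` to `aP` or `aP zP`.** -/
theorem map_a {g : Equiv.Perm GolayPt} (hg : Cz g) : Good g := by
  -- step 3
  have s3 : ∀ g, Cz g → val g 4 = 4 → val g 1 = 1 → Good g := by
    intro g hg h4 h1
    have h3 := (hg.fixz (i := 3) (by norm_num)).1 (by decide +kernel)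
    have h5 := List.all_eq_true.1 cov3 _ (El.mem_pts (El.val_lt g 3))
    rw [h3, Nat.beq_refl] at h5
    simp only [Bool.not_true, Bool.false_or, Bool.or_eq_true, Nat.beq_eq] at h5
    rcases h5 with (((h5 | h5) | h5) | h5) | h5
    · exact absurd (El.val_inj (by norm_num) (by norm_num) (h5.trans hg.v23.symm)) (by norm_num)
    · exact absurd (El.val_inj (by norm_num) (by norm_num) (h5.trans hg.v0.symm)) (by norm_num)
    · exact absurd (El.val_inj (by norm_num) (by norm_num) (h5.trans h1.symm)) (by norm_num)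
    · exact absurd (El.val_inj (by norm_num) (by norm_num) (h5.trans (hg.v2 h4 h1).symm)) (by norm_num)
    · obtain ⟨P, hP, h6⟩ := List.any_eq_true.1 h5
      have h7 := List.all_eq_true.1 R3_tst P hP
      rw [Bool.and_eq_true, Bool.and_eq_true, Nat.beq_eq, Nat.beq_eq] at h7
      obtain ⟨⟨h7, h8⟩, h9⟩ := h7
      obtain ⟨hp, hc, hgood⟩ := of_tst h7
      have h10 : (pm P)⁻¹ * g = 1 := by
        apply (hc.inv.mul hg).eq_one
        · exact val_inv_mul hp (by norm_num) (by norm_num) (h8.trans h4.symm)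
        · exact val_inv_mul hp (by norm_num) (by norm_num) (h9.trans h1.symm)
        · exact val_inv_mul hp (by norm_num) (by norm_num) (Nat.eq_of_beq_eq_true h6)
      rw [inv_mul_eq_one] at h10
      rw [← h10]
      exact hgood
  -- step 2
  have s2 : ∀ g, Cz g → val g 4 = 4 → Good g := by
    intro g hg h4
    have h3 := (hg.fixz (i := 1) (by norm_num)).1 (by decide +kernel)
    have h5 := List.all_eq_true.1 cov2 _ (El.mem_pts (El.val_lt g 1))
    rw [h3, Nat.beq_refl] at h5
    simp only [Bool.not_true, Bool.false_or, Bool.or_eq_true, Nat.beq_eq] at h5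
    rcases h5 with (h5 | h5) | h5
    · exact absurd (El.val_inj (by norm_num) (by norm_num) (h5.trans hg.v23.symm)) (by norm_num)
    · exact absurd (El.val_inj (by norm_num) (by norm_num) (h5.trans hg.v0.symm)) (by norm_num)
    · obtain ⟨P, hP, h6⟩ := List.any_eq_true.1 h5
      have h7 := List.all_eq_true.1 R2_tst P hP
      rw [Bool.and_eq_true, Nat.beq_eq] at h7
      obtain ⟨hp, hc, hgood⟩ := of_tst h7.1
      have h10 := s3 _ (hc.inv.mul hg) (val_inv_mul hp (by norm_num) (by norm_num) (h7.2.trans h4.symm))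
        (val_inv_mul hp (by norm_num) (by norm_num) (Nat.eq_of_beq_eq_true h6))
      have h11 := hgood.mul h10 hc
      rwa [mul_inv_cancel_left] at h11
  -- step 1
  have h3 : ¬ papp zP (val g 4) = val g 4 := fun h => by
    have h4 := (hg.fixz (i := 4) (by norm_num)).2 h
    exact absurd h4 (by decide +kernel)
  have h5 := List.all_eq_true.1 cov1 _ (El.mem_pts (El.val_lt g 4))
  rw [Bool.or_eq_true, Nat.beq_eq] at h5
  rcases h5 with h5 | h5
  · exact absurd h5 h3
  · obtain ⟨P, hP, h6⟩ := List.any_eq_true.1 h5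
    obtain ⟨hp, hc, hgood⟩ := of_tst (List.all_eq_true.1 R1_tst P hP)
    have h10 := s2 _ (hc.inv.mul hg) (val_inv_mul hp (by norm_num) (by norm_num) (Nat.eq_of_beq_eq_true h6))
    have h11 := hgood.mul h10 hc
    rwa [mul_inv_cancel_left] at h11

/-- the elements of odd order of `C(zP)` commute with `aP` -/
theorem odd_comm {g : Equiv.Perm GolayPt} (hg : Cz g) (ho : Odd (orderOf g)) : g * pm aP = pm aP * g := by
  rcases map_a hg with h | h
  · exact h
  · exfalso
    have h1 : ∀ n : ℕ, g ^ n * pm aP = pm aP * pm zP ^ n * g ^ n := by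
      intro n
      induction n with
      | zero => simp
      | succ n ih =>
        have h2 : g * pm zP ^ n = pm zP ^ n * g := by
          have : Commute g (pm zP) := hg.2
          exact this.pow_right n
        calc g ^ (n + 1) * pm aP = g * (g ^ n * pm aP) := by rw [pow_succ', mul_assoc]
          _ = g * pm aP * pm zP ^ n * g ^ n := by rw [ih]; group
          _ = pm aP * pm zP * (g * pm zP ^ n) * g ^ n := by rw [h]; group
          _ = pm aP * pm zP ^ (n + 1) * g ^ (n + 1) := by rw [h2, pow_succ', pow_succ']; group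
    obtain ⟨m, hm⟩ := ho
    have h2 := h1 (orderOf g)
    rw [pow_orderOf_eq_one, one_mul, mul_one, hm, pow_succ, pow_mul, pow_two, z_sq, one_pow, one_mul,
      left_eq_mul] at h2
    exact InvM22.pm_ne h2

/-! ### Automorphisms -/

theorem D22_conj_mem {g x : Equiv.Perm GolayPt} (hg : g ∈ D22) (hx : x ∈ Spor.M22) : g * x * g⁻¹ ∈ Spor.M22 := by
  have h1 : g * x * g⁻¹ ∈ D22 :=
    D22.mul_mem (D22.mul_mem hg (Cfsg.Agent.J4Type.Aut22.M22_le_D22 hx)) (D22.inv_mem hg)
  rw [Cfsg.Agent.J4Type.Aut22.mem_M22_iff_D22]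
  refine ⟨h1, ?_⟩
  obtain ⟨-, hx0, hx1⟩ := (Cfsg.Agent.SporadicA.MathieuRecog.mem_M22_iff x).1 hx
  rcases ((Cfsg.Agent.J4Type.Aut22.mem_D22_iff g).1 hg).2 with h | h
  · have h2 : g⁻¹ none = none := by rw [Equiv.Perm.inv_eq_iff_eq, h.1]
    rw [Equiv.Perm.mul_apply, Equiv.Perm.mul_apply, h2, hx0, h.1]
  · have h2 : g⁻¹ none = some 0 := by rw [Equiv.Perm.inv_eq_iff_eq, h.2]
    rw [Equiv.Perm.mul_apply, Equiv.Perm.mul_apply, h2, hx1, h.2]

/-- the automorphism of `M22` induced by an element of `D22` -/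
def autD (g : Equiv.Perm GolayPt) (hg : g ∈ D22) : MulAut Spor.M22 where
  toFun x := ⟨g * x * g⁻¹, D22_conj_mem hg x.2⟩
  invFun x := ⟨g⁻¹ * x * g, by
    have := D22_conj_mem (D22.inv_mem hg) x.2
    rwa [inv_inv] at this⟩
  left_inv x := Subtype.ext (by
    change g⁻¹ * (g * x * g⁻¹) * g = x
    group)
  right_inv x := Subtype.ext (by
    change g * (g⁻¹ * x * g) * g⁻¹ = x
    group)
  map_mul' x y := Subtype.ext (by
    change g * (x * y) * g⁻¹ = g * x * g⁻¹ * (g * y * g⁻¹)
    group)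

theorem autD_apply {g : Equiv.Perm GolayPt} (hg : g ∈ D22) (x : Spor.M22) :
    (autD g hg x : Equiv.Perm GolayPt) = g * x * g⁻¹ := rfl

theorem autD_sq {g : Equiv.Perm GolayPt} (hg : g ∈ D22) (h2 : g * g = 1) : autD g hg * autD g hg = 1 := by
  apply MulEquiv.ext
  intro x
  apply Subtype.ext
  change g * (g * (x : Equiv.Perm GolayPt) * g⁻¹) * g⁻¹ = x
  calc g * (g * (x : Equiv.Perm GolayPt) * g⁻¹) * g⁻¹ = (g * g) * x * (g * g)⁻¹ := by group
    _ = x := by rw [h2]; group

theorem autD_outer {g : Equiv.Perm GolayPt} (hg : g ∈ D22) (hn : g ∉ Spor.M22) (x : Spor.M22) :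
    autD g hg ≠ MulAut.conj x := by
  intro h
  apply hn
  have h1 : g = x := by
    refine eq_of_conj hg (Cfsg.Agent.J4Type.Aut22.M22_le_D22 x.2) fun y => ?_
    have h2 := congrArg (fun f : MulAut Spor.M22 => (f y : Equiv.Perm GolayPt)) h
    exact h2
  rw [h1]
  exact x.2

theorem a_sq : pm aP * pm aP = 1 := eq_nil isPerm_a isPerm_a (by decide +kernel)

theorem a_not_mem : pm aP ∉ Spor.M22 := by
  intro h
  have h1 := ((Cfsg.Agent.SporadicA.MathieuRecog.mem_M22_iff _).1 h).2.1
  rw [pm_aP_none] at h1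
  cases h1

theorem exists_conj_all (v : Spor.M22) (hv : v * v = 1) (hv1 : v ≠ 1) :
    ∃ g ∈ Spor.M22, (v : Equiv.Perm GolayPt) = g * pm zP * g⁻¹ :=
  InvM22.inv22 v v.2 (congrArg Subtype.val hv) (fun h => hv1 (Subtype.ext h))

/-- the field `fixv` -/
theorem fixv (v : Spor.M22) (hv : v * v = 1) (hv1 : v ≠ 1) : ∃ β : MulAut Spor.M22, β * β = 1 ∧
    (∀ x, β ≠ MulAut.conj x) ∧ β v = v ∧ ∀ x, Odd (orderOf x) → x * v = v * x → β x = x := by
  obtain ⟨g, hg, e⟩ := exists_conj_all v hv hv1
  have hgD := Cfsg.Agent.J4Type.Aut22.M22_le_D22 hg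
  have haD : g * pm aP * g⁻¹ ∈ D22 := D22.mul_mem (D22.mul_mem hgD pm_aP_D22) (D22.inv_mem hgD)
  have key : ∀ x : Equiv.Perm GolayPt, (g⁻¹ * x * g) * pm aP = pm aP * (g⁻¹ * x * g) →
      g * pm aP * g⁻¹ * x * (g * pm aP * g⁻¹)⁻¹ = x := by
    intro x hx
    calc g * pm aP * g⁻¹ * x * (g * pm aP * g⁻¹)⁻¹ = g * (pm aP * (g⁻¹ * x * g)) * (pm aP)⁻¹ * g⁻¹ := by group
      _ = g * ((g⁻¹ * x * g) * pm aP) * (pm aP)⁻¹ * g⁻¹ := by rw [hx]
      _ = x := by group
  refine ⟨autD _ haD, autD_sq haD ?_, autD_outer haD ?_, ?_, ?_⟩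
  · calc g * pm aP * g⁻¹ * (g * pm aP * g⁻¹) = g * (pm aP * pm aP) * g⁻¹ := by group
      _ = 1 := by rw [a_sq]; group
  · intro h
    apply a_not_mem
    have h1 := Spor.M22.mul_mem (Spor.M22.mul_mem (Spor.M22.inv_mem hg) h) hg
    have h2 : g⁻¹ * (g * pm aP * g⁻¹) * g = pm aP := by group
    rwa [h2] at h1
  · apply Subtype.ext
    rw [autD_apply]
    apply key
    have h1 : g⁻¹ * (v : Equiv.Perm GolayPt) * g = pm zP := by rw [e]; group
    rw [h1, az_comm]
  · intro x hx hxv
    apply Subtype.ext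
    rw [autD_apply]
    apply key
    apply odd_comm
    · refine ⟨Spor.M22.mul_mem (Spor.M22.mul_mem (Spor.M22.inv_mem hg) x.2) hg, ?_⟩
      have h1 : (x : Equiv.Perm GolayPt) * (g * pm zP * g⁻¹) = g * pm zP * g⁻¹ * x := by
        rw [← e]; exact congrArg Subtype.val hxv
      calc g⁻¹ * (x : Equiv.Perm GolayPt) * g * pm zP = g⁻¹ * (x * (g * pm zP * g⁻¹)) * g := by group
        _ = g⁻¹ * (g * pm zP * g⁻¹ * x) * g := by rw [h1]
        _ = pm zP * (g⁻¹ * x * g) := by group
    · have h2 : orderOf (g⁻¹ * (x : Equiv.Perm GolayPt) * g⁻¹⁻¹) = orderOf (x : Equiv.Perm GolayPt) :=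
        (MulAut.conj g⁻¹).orderOf_eq _
      rw [inv_inv] at h2
      rw [h2, Subgroup.orderOf_coe]
      exact hx

/-- the field `fix2` -/
theorem fix2 (v : Spor.M22) (hv : v * v = 1) (hv1 : v ≠ 1) (β : MulAut Spor.M22) (_ : β v = v)
    (hβ : ∀ x, Odd (orderOf x) → x * v = v * x → β x = x) : β * β = 1 := by
  obtain ⟨h, hh, hβh⟩ := exists_D β
  obtain ⟨g, hg, e⟩ := exists_conj_all v hv hv1
  have hgD := Cfsg.Agent.J4Type.Aut22.M22_le_D22 hg
  have hsq : (g⁻¹ * h * g) * (g⁻¹ * h * g) = 1 := by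
    apply sq_of_comm
    · exact D22.mul_mem (D22.mul_mem (D22.inv_mem hgD) hh) hgD
    · intro d hd hd3 hdz
      have hy : g * d * g⁻¹ ∈ Spor.M22 := Spor.M22.mul_mem (Spor.M22.mul_mem hg hd) (Spor.M22.inv_mem hg)
      have h3 : β ⟨g * d * g⁻¹, hy⟩ = ⟨g * d * g⁻¹, hy⟩ := by
        apply hβ
        · have h4 : orderOf (⟨g * d * g⁻¹, hy⟩ : Spor.M22) ∣ 3 := by
            apply orderOf_dvd_of_pow_eq_one
            apply Subtype.ext
            show (g * d * g⁻¹) ^ 3 = 1
            calc (g * d * g⁻¹) ^ 3 = g * (d * d * d) * g⁻¹ := by rw [pow_succ, pow_two]; group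
              _ = 1 := by rw [hd3]; group
          exact Odd.of_dvd_nat (by decide) h4
        · apply Subtype.ext
          show g * d * g⁻¹ * v = v * (g * d * g⁻¹)
          rw [e]
          calc g * d * g⁻¹ * (g * pm zP * g⁻¹) = g * (d * pm zP) * g⁻¹ := by group
            _ = g * (pm zP * d) * g⁻¹ := by rw [hdz]
            _ = g * pm zP * g⁻¹ * (g * d * g⁻¹) := by group
      have h4 := congrArg Subtype.val h3
      rw [hβh] at h4
      have h5 : h * (g * d * g⁻¹) * h⁻¹ = g * d * g⁻¹ := h4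
      have h6 : h * (g * d * g⁻¹) = g * d * g⁻¹ * h := by
        calc h * (g * d * g⁻¹) = h * (g * d * g⁻¹) * h⁻¹ * h := by group
          _ = g * d * g⁻¹ * h := by rw [h5]
      calc g⁻¹ * h * g * d = g⁻¹ * (h * (g * d * g⁻¹)) * g := by group
        _ = g⁻¹ * (g * d * g⁻¹ * h) * g := by rw [h6]
        _ = d * (g⁻¹ * h * g) := by group
  have hh2 : h * h = 1 := by
    calc h * h = g * ((g⁻¹ * h * g) * (g⁻¹ * h * g)) * g⁻¹ := by group
      _ = 1 := by rw [hsq]; group
  apply MulEquiv.ext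
  intro x
  apply Subtype.ext
  rw [MulAut.mul_apply, hβh, hβh]
  calc h * (h * (x : Equiv.Perm GolayPt) * h⁻¹) * h⁻¹ = (h * h) * x * (h * h)⁻¹ := by group
    _ = x := by rw [hh2]; group

end Cfsg.Agent.OddHalf.D9.M22.UFact

end

-- merged: Cfsg.Agent.OddHalf.D9.M22.ConfM22
section

/-!
# The configurations `ConfB`, `ConfC` for the outer involutions of `M22.2`

`conf` : the field `conf` of `CovPair.PData Spor.M22 E22 a22 b22`. The tables are due to helper322.
-/

set_option autoImplicit false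
set_option Elab.async false

namespace Cfsg.Agent.OddHalf.D9.M22.ConfM22

open Cfsg Cfsg.Agent.SporadicA.GolayBase Cfsg.Agent.SporadicA.GolayPerm
open Cfsg.Agent.SporadicStructure.M24El Cfsg.Agent.KFacts.MM
open Cfsg.Agent.KFacts.MM.El (pm pr weq okl)
open Cfsg.Agent.KFacts.MM.Data (WL zP)
open Cfsg.Agent.OddHalf.D9.M22.Data (aP bP)
open Cfsg.Agent.J4Type.Aut22 (D22)
open Cfsg.Agent.OddHalf.D9.M22 Cfsg.Agent.OddHalf.D9.M22.EDataM22 Cfsg.Agent.OddHalf.D9.M22.CovPair
open Cfsg.Agent.KFacts.MM.InvM22 (isPerm_of_ok)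

/-! ### Tables -/

/-- the elements `x i j` for `aP` -/
def xT : List (List ℕ) := [
  [984818244535754528103549039458486304,
   984818244535754528103549039458486304,
   960831283963798152912375878980765728,
   972560815420533050926679905878345760,
   976934804572108675034832543981668384],
  [984818244535754528103549039458486304,
   984818244535754528103549039458486304,
   960884477435128931241433760505432096,
   976420838754479978627774237199763488,
   973054518210042674313238929715267616],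
  [960831283963798152912375878980765728,
   960884477435128931241433760505432096,
   984818244535754528103549039458486304,
   961438956620049001677386430328277024,
   961365507626256404119956257276790816],
  [972560815420533050926679905878345760,
   976420838754479978627774237199763488,
   961438956620049001677386430328277024,
   984818244535754528103549039458486304,
   984724508489452699215480746259449888],
  [976934804572108675034832543981668384,
   973054518210042674313238929715267616,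
   961365507626256404119956257276790816,
   984724508489452699215480746259449888,
   984818244535754528103549039458486304]]

/-- the elements `n i j` for `aP` -/
def nT : List (List ℕ) := [
  [984818244535754528103549039458486304,
   984818244535754528103549039458486304,
   981515887986994088769278604842469408,
   978318524216658799587490559007787040,
   972606645568131968584696805283956768],
  [984818244535754528103549039458486304,
   984818244535754528103549039458486304,
   975728708050008715525885598301784096,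
   962781169961859770917597827557885984,
   976531636853126291160407323722221600],
  [981515887986994088769278604842469408,
   975728708050008715525885598301784096,
   984818244535754528103549039458486304,
   979664649077166684931923499319691296,
   968708902336673183175954409307867168],
  [978318524216658799587490559007787040,
   962781169961859770917597827557885984,
   979664649077166684931923499319691296,
   984818244535754528103549039458486304,
   959732426763950752223113323844601888],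
  [972606645568131968584696805283956768,
   976531636853126291160407323722221600,
   968708902336673183175954409307867168,
   959732426763950752223113323844601888,
   984818244535754528103549039458486304]]

def mB : ℕ := 981557652331371326394331282385078304
def dB : ℕ := 963387251845851716769057140306020384

/-- the elements `x i` for `bP` -/
def xC : List ℕ := [
  977023451795203591179182037798520864,
  976448692869377735270425038196672544,
  973054518210042674313238929715267616,
  984724508489452699215480746259449888,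
  972560815420533050926679905878345760]

/-- the elements `n i` for `bP` -/
def nC : List ℕ := [
  972606645568131968584696805283956768,
  963721886883755259286232606933354528,
  983271302155371035984055114495264800,
  980504394422866046962412236452235296,
  976531636853126291160407323722221600]

def mC : ℕ := 967933930814660160276170748135048256
def dC : ℕ := 982096318998391814847189819862485024

/-! ### Elements of `M22` and outer automorphisms -/

open Classical in
/-- the packed element of `M22` -/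
noncomputable def el22 (P : ℕ) : Spor.M22 := if h : ok22 P = true then ⟨pm P, pm_M22 h⟩ else 1

theorem coe_el22 {P : ℕ} (h : ok22 P = true) : (el22 P : Equiv.Perm GolayPt) = pm P := by
  unfold el22
  rw [dif_pos h]

theorem isPerm22 {P : ℕ} (h : ok22 P = true) : isPerm P = true := isPerm_of_ok (ok_of_ok22 h)

theorem el22_one : el22 idP = 1 := by
  apply Subtype.ext
  rw [coe_el22 (by decide +kernel), pm_idP]
  rfl

theorem D22_none {A : Equiv.Perm GolayPt} (hA : A ∈ D22) {x : Equiv.Perm GolayPt} (hx : x ∈ Spor.M22) :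
    A * x * A⁻¹ ∈ Spor.M22 := by
  rw [Cfsg.Agent.J4Type.Aut22.mem_M22_iff_D22]
  have hxD := Cfsg.Agent.J4Type.Aut22.M22_le_D22 hx
  refine ⟨D22.mul_mem (D22.mul_mem hA hxD) (D22.inv_mem hA), ?_⟩
  obtain ⟨-, h1, h2⟩ := (Cfsg.Agent.SporadicA.MathieuRecog.mem_M22_iff x).1 hx
  show A (x (A⁻¹ none)) = none
  rcases ((Cfsg.Agent.J4Type.Aut22.mem_D22_iff A).1 hA).2 with ⟨h3, -⟩ | ⟨-, h4⟩
  · have h5 : A⁻¹ none = none := by rw [Equiv.Perm.inv_eq_iff_eq, h3]
    rw [h5, h1, h3]
  · have h5 : A⁻¹ none = some 0 := by rw [Equiv.Perm.inv_eq_iff_eq, h4]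
    rw [h5, h2, h4]

/-- conjugation by an element of `D22` as an automorphism of `M22` -/
noncomputable def cj (A : Equiv.Perm GolayPt) (hA : A ∈ D22) : MulAut Spor.M22 where
  toFun x := ⟨A * x * A⁻¹, D22_none hA x.2⟩
  invFun x := ⟨A⁻¹ * x * A, by
    have h := D22_none (D22.inv_mem hA) x.2
    rwa [inv_inv] at h⟩
  left_inv x := Subtype.ext (by show A⁻¹ * (A * (x : Equiv.Perm GolayPt) * A⁻¹) * A = x; group)
  right_inv x := Subtype.ext (by show A * (A⁻¹ * (x : Equiv.Perm GolayPt) * A) * A⁻¹ = x; group)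
  map_mul' x y := Subtype.ext (by
    show A * ((x : Equiv.Perm GolayPt) * y) * A⁻¹ = A * (x : Equiv.Perm GolayPt) * A⁻¹ * (A * y * A⁻¹)
    group)

theorem coe_cj {A : Equiv.Perm GolayPt} (hA : A ∈ D22) (x : Spor.M22) :
    (cj A hA x : Equiv.Perm GolayPt) = A * x * A⁻¹ := rfl

theorem pm_bP_D22 : pm bP ∈ D22 := by
  rw [Cfsg.Agent.J4Type.Aut22.mem_D22_iff]
  refine ⟨pm_M24 ok_bP, Or.inr ⟨pm_bP_none, ?_⟩⟩
  rw [← pt_0, pm_pt ok_bP (by norm_num), b_0]
  rfl

theorem nm_of_nrm {n : ℕ} (h : nrm n = true) : Nm E22 (el22 n) := by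
  have h1 := coe_el22 (ok22_of_nrm h)
  have h2 := nrm_pm h
  refine ⟨fun w hw => ?_, fun w hw => ?_⟩
  · rw [mem_E22]
    show (el22 n : Equiv.Perm GolayPt) * w * (el22 n : Equiv.Perm GolayPt)⁻¹ ∈ E
    rw [h1]
    exact h2.2 _ hw
  · rw [mem_E22]
    show (el22 n : Equiv.Perm GolayPt)⁻¹ * w * (el22 n : Equiv.Perm GolayPt) ∈ E
    rw [h1]
    exact h2.inv_mem hw

theorem eq_three {P Q R S T U : ℕ} (h1 : isPerm P = true) (h2 : isPerm Q = true) (h3 : isPerm R = true)
    (h4 : isPerm S = true) (h5 : isPerm T = true) (h6 : isPerm U = true) (h : weq [P, Q, R] [S, T, U] = true) :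
    pm P * pm Q * pm R = pm S * pm T * pm U := by
  have h7 := El.pr_of_weq (okl_three h1 h2 h3) (okl_three h4 h5 h6) h
  simp only [El.pr_cons, El.pr_nil, mul_one] at h7
  rw [mul_assoc, mul_assoc]; exact h7

theorem eq_two_three {P Q S T U : ℕ} (h1 : isPerm P = true) (h2 : isPerm Q = true)
    (h4 : isPerm S = true) (h5 : isPerm T = true) (h6 : isPerm U = true) (h : weq [P, Q] [S, T, U] = true) :
    pm P * pm Q = pm S * pm T * pm U := by
  have h7 := El.pr_of_weq (okl_two h1 h2) (okl_three h4 h5 h6) h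
  simp only [El.pr_cons, El.pr_nil, mul_one] at h7
  rw [mul_assoc (pm S)]; exact h7

/-- `n⁻¹ A(n) = x` -/
theorem delta_eq {A : ℕ} (hA : ok A = true) (hAD : pm A ∈ D22) {n x : ℕ} (hn : ok22 n = true) (hx : ok22 x = true)
    (h : weq [A, n] [n, x, A] = true) : (el22 n)⁻¹ * cj (pm A) hAD (el22 n) = el22 x := by
  apply Subtype.ext
  show (el22 n : Equiv.Perm GolayPt)⁻¹ * (pm A * (el22 n : Equiv.Perm GolayPt) * (pm A)⁻¹) = el22 x
  rw [coe_el22 hn, coe_el22 hx, eq_two_three (isPerm_of_ok hA) (isPerm22 hn) (isPerm22 hn) (isPerm22 hx)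
    (isPerm_of_ok hA) h]
  group

/-- `m⁻¹ x m (m⁻¹ A(m)) = y` -/
theorem move_eq {A : ℕ} (hA : ok A = true) (hAD : pm A ∈ D22) {m x y : ℕ} (hm : ok22 m = true) (hx : ok22 x = true)
    (hy : ok22 y = true) (h : weq [x, A, m] [m, y, A] = true) :
    (el22 m)⁻¹ * el22 x * el22 m * ((el22 m)⁻¹ * cj (pm A) hAD (el22 m)) = el22 y := by
  apply Subtype.ext
  show (el22 m : Equiv.Perm GolayPt)⁻¹ * (el22 x : Equiv.Perm GolayPt) * (el22 m : Equiv.Perm GolayPt) *
    ((el22 m : Equiv.Perm GolayPt)⁻¹ * (pm A * (el22 m : Equiv.Perm GolayPt) * (pm A)⁻¹)) = el22 y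
  rw [coe_el22 hm, coe_el22 hx, coe_el22 hy]
  have h1 := eq_three (isPerm22 hx) (isPerm_of_ok hA) (isPerm22 hm) (isPerm22 hm) (isPerm22 hy) (isPerm_of_ok hA) h
  calc (pm m)⁻¹ * pm x * pm m * ((pm m)⁻¹ * (pm A * pm m * (pm A)⁻¹)) =
      (pm m)⁻¹ * (pm x * pm A * pm m) * (pm A)⁻¹ := by group
    _ = (pm m)⁻¹ * (pm m * pm y * pm A) * (pm A)⁻¹ := by rw [h1]
    _ = pm y := by group

theorem conj_eq' {m x y : ℕ} (hm : ok22 m = true) (hx : ok22 x = true)
    (hy : ok22 y = true) (h : weq [x, m] [m, y] = true) :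
    (el22 m)⁻¹ * el22 x * el22 m = el22 y := by
  apply Subtype.ext
  show (el22 m : Equiv.Perm GolayPt)⁻¹ * (el22 x : Equiv.Perm GolayPt) * (el22 m : Equiv.Perm GolayPt) = el22 y
  rw [coe_el22 hm, coe_el22 hx, coe_el22 hy, mul_assoc, eq_two (isPerm22 hx) (isPerm22 hm) (isPerm22 hm)
    (isPerm22 hy) h]
  group

theorem conj_mul_eq {m x y w : ℕ} (hm : ok22 m = true) (hx : ok22 x = true)
    (hy : ok22 y = true) (hw : ok22 w = true) (h : weq [x, m, w] [m, y] = true) :
    (el22 m)⁻¹ * el22 x * el22 m * el22 w = el22 y := by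
  apply Subtype.ext
  show (el22 m : Equiv.Perm GolayPt)⁻¹ * (el22 x : Equiv.Perm GolayPt) * (el22 m : Equiv.Perm GolayPt) *
    (el22 w : Equiv.Perm GolayPt) = el22 y
  rw [coe_el22 hm, coe_el22 hx, coe_el22 hy, coe_el22 hw]
  have h7 := El.pr_of_weq (okl_three (isPerm22 hx) (isPerm22 hm) (isPerm22 hw))
    (okl_two (isPerm22 hm) (isPerm22 hy)) h
  simp only [El.pr_cons, El.pr_nil, mul_one] at h7
  calc (pm m)⁻¹ * pm x * pm m * pm w = (pm m)⁻¹ * (pm x * (pm m * pm w)) := by group
    _ = (pm m)⁻¹ * (pm m * pm y) := by rw [h7]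
    _ = pm y := by group

theorem ok22_WL {P : ℕ} (h : WL.any (Nat.beq P) = true) : P ∈ WL := by
  obtain ⟨Q, hQ, h1⟩ := List.any_eq_true.1 h
  rwa [Nat.eq_of_beq_eq_true h1]

theorem el22_mem {P : ℕ} (h : P ∈ WL) : el22 P ∈ E22 := by
  rw [mem_E22, coe_el22 (ok22_of_WL h)]
  exact pm_mem_E h

theorem el22_ne {P : ℕ} (h : ok22 P = true) (hw : weq [P] [] = false) : el22 P ≠ 1 := by
  intro e
  refine El.pr_ne (okl_one (isPerm22 h)) rfl hw ?_
  rw [El.pr_one, El.pr_nil, ← coe_el22 h, e]
  rfl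

/-! ### `ConfB` -/

/-- the packed `x i j` -/
def xP (i j : ℕ) : ℕ := (xT.getD i []).getD j 0
/-- the packed `n i j` -/
def nP (i j : ℕ) : ℕ := (nT.getD i []).getD j 0

theorem xB_ok : ((List.range 5).all fun i => (List.range 5).all fun j => Nat.beq i j ||
    (WL.any (Nat.beq (xP i j)) && Nat.beq (xP i j) (xP j i) && nrm (nP i j) &&
      weq [aP, nP i j] [nP i j, xP i j, aP] &&
      weq [xP i j, aP, mB] [mB, xP ((i + 1) % 5) ((j + 1) % 5), aP])) = true := by decide +kernel

theorem xB_spec {i j : ℕ} (hi : i < 5) (hj : j < 5) (hij : i ≠ j) : xP i j ∈ WL ∧ xP i j = xP j i ∧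
    nrm (nP i j) = true ∧ weq [aP, nP i j] [nP i j, xP i j, aP] = true ∧
    weq [xP i j, aP, mB] [mB, xP ((i + 1) % 5) ((j + 1) % 5), aP] = true := by
  have h1 := List.all_eq_true.1 (List.all_eq_true.1 xB_ok i (List.mem_range.2 hi)) j (List.mem_range.2 hj)
  rw [Bool.or_eq_true, Nat.beq_eq] at h1
  rcases h1 with h1 | h1
  · exact absurd h1 hij
  simp only [Bool.and_eq_true, Nat.beq_eq] at h1
  exact ⟨ok22_WL h1.1.1.1.1, h1.1.1.1.2, h1.1.1.2, h1.1.2, h1.2⟩

theorem mB_nrm : nrm mB = true := by decide +kernel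
theorem dB_nrm : nrm dB = true := by decide +kernel

theorem prod_three {P Q R : ℕ} (hP : ok22 P = true) (hQ : ok22 Q = true) (hR : ok22 R = true)
    (h : weq [P, Q, R] [] = true) : el22 P * el22 Q * el22 R = 1 := by
  apply Subtype.ext
  show (el22 P : Equiv.Perm GolayPt) * (el22 Q : Equiv.Perm GolayPt) * (el22 R : Equiv.Perm GolayPt) = 1
  rw [coe_el22 hP, coe_el22 hQ, coe_el22 hR]
  have h7 := El.pr_of_weq (okl_three (isPerm22 hP) (isPerm22 hQ) (isPerm22 hR)) rfl h
  simp only [El.pr_cons, El.pr_nil, mul_one] at h7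
  rw [mul_assoc]; exact h7

theorem confB : ConfB E22 (cj (pm aP) pm_aP_D22) := by
  have hval : ∀ i : Fin 5, (i + 1 : Fin 5).val = (i.val + 1) % 5 := by decide
  refine ⟨fun i j => el22 (xP i j), fun i j => el22 (nP i j), el22 mB, el22 dB, ?_, ?_, ⟨nm_of_nrm mB_nrm, ?_⟩,
    ?_, ?_, ?_, nm_of_nrm dB_nrm, ?_, ?_, ?_, ?_⟩
  · intro y hy
    apply Subtype.ext
    rw [coe_cj, aP_comm (mem_E22.1 hy), mul_inv_cancel_right]
  · intro i j hij
    obtain ⟨h1, h2, h3, h4, -⟩ := xB_spec i.2 j.2 (fun e => hij (Fin.ext e))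
    refine ⟨el22_mem h1, ?_, nm_of_nrm h3, delta_eq ok_aP pm_aP_D22 (ok22_of_nrm h3) (ok22_of_WL h1) h4⟩
    show el22 (xP i j) = el22 (xP j i)
    rw [h2]
  · intro i j hij
    obtain ⟨h1, -, -, -, h5⟩ := xB_spec i.2 j.2 (fun e => hij (Fin.ext e))
    have hij' : i + 1 ≠ j + 1 := fun e => hij (add_right_cancel e)
    obtain ⟨h1', -⟩ := xB_spec (i + 1).2 (j + 1).2 (fun e => hij' (Fin.ext e))
    show (el22 mB)⁻¹ * el22 (xP i j) * el22 mB * ((el22 mB)⁻¹ * cj (pm aP) pm_aP_D22 (el22 mB)) =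
      el22 (xP (i + 1 : Fin 5) (j + 1 : Fin 5))
    refine move_eq ok_aP pm_aP_D22 (ok22_of_nrm mB_nrm) (ok22_of_WL h1) (ok22_of_WL h1') ?_
    rw [hval i, hval j]
    exact h5
  · show el22 (xP 0 1) = 1
    rw [show xP 0 1 = idP by decide +kernel, el22_one]
  · exact el22_ne (P := xP 0 2) (by decide +kernel) (by decide +kernel)
  · exact prod_three (P := xP 0 2) (Q := xP 0 3) (R := xP 0 4) (by decide +kernel) (by decide +kernel)
      (by decide +kernel) (by decide +kernel)
  · rw [pow_succ, pow_two]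
    exact prod_three (P := dB) (Q := dB) (R := dB) (by decide +kernel) (by decide +kernel)
      (by decide +kernel) (by decide +kernel)
  · apply Subtype.ext
    rw [coe_cj, coe_el22 (ok22_of_nrm dB_nrm), eq_two (isPerm_of_ok ok_aP) (isPerm22 (ok22_of_nrm dB_nrm))
      (isPerm22 (ok22_of_nrm dB_nrm)) (isPerm_of_ok ok_aP) (by decide +kernel), mul_inv_cancel_right]
  · exact conj_eq' (m := dB) (x := xP 0 2) (y := xP 0 3) (by decide +kernel) (by decide +kernel)
      (by decide +kernel) (by decide +kernel)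
  · exact conj_eq' (m := dB) (x := xP 0 3) (y := xP 0 4) (by decide +kernel) (by decide +kernel)
      (by decide +kernel) (by decide +kernel)

/-! ### `ConfC` -/

theorem xC_ok : ((List.range 5).all fun i => (WL.any (Nat.beq (xC.getD i 0)) && nrm (nC.getD i 0) &&
      weq [bP, nC.getD i 0] [nC.getD i 0, xC.getD i 0, bP] &&
      weq [xC.getD i 0, dC] [dC, xC.getD ((i + 1) % 5) 0])) = true := by decide +kernel

theorem xC_spec {i : ℕ} (hi : i < 5) : xC.getD i 0 ∈ WL ∧ nrm (nC.getD i 0) = true ∧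
      weq [bP, nC.getD i 0] [nC.getD i 0, xC.getD i 0, bP] = true ∧
      weq [xC.getD i 0, dC] [dC, xC.getD ((i + 1) % 5) 0] = true := by
  have h1 := List.all_eq_true.1 xC_ok i (List.mem_range.2 hi)
  simp only [Bool.and_eq_true] at h1
  exact ⟨ok22_WL h1.1.1.1, h1.1.1.2, h1.1.2, h1.2⟩

theorem mC_nrm : nrm mC = true := by decide +kernel
theorem dC_nrm : nrm dC = true := by decide +kernel

theorem five {P Q R S T : ℕ} (hP : ok22 P = true) (hQ : ok22 Q = true) (hR : ok22 R = true) (hS : ok22 S = true)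
    (hT : ok22 T = true) (h : weq [P, Q, R, S, T] [] = true) :
    el22 P * el22 Q * el22 R * el22 S * el22 T = 1 := by
  apply Subtype.ext
  show (el22 P : Equiv.Perm GolayPt) * (el22 Q : Equiv.Perm GolayPt) * (el22 R : Equiv.Perm GolayPt) *
    (el22 S : Equiv.Perm GolayPt) * (el22 T : Equiv.Perm GolayPt) = 1
  rw [coe_el22 hP, coe_el22 hQ, coe_el22 hR, coe_el22 hS, coe_el22 hT]
  have hl : okl [P, Q, R, S, T] = true := by
    unfold El.okl
    simp only [List.all_cons, List.all_nil, isPerm22 hP, isPerm22 hQ, isPerm22 hR, isPerm22 hS, isPerm22 hT,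
      Bool.and_self]
  have h7 := El.pr_of_weq hl rfl h
  simp only [El.pr_cons, El.pr_nil, mul_one] at h7
  rw [← h7]; group

theorem confC : ConfC E22 (cj (pm bP) pm_bP_D22) := by
  have hval : ∀ i : Fin 5, (i + 1 : Fin 5).val = (i.val + 1) % 5 := by decide
  refine ⟨fun i => el22 (xC.getD i 0), fun i => el22 (nC.getD i 0), el22 mC, el22 dC, ?_, ?_, ?_, ?_,
    ⟨nm_of_nrm dC_nrm, ?_, ?_, ?_⟩, nm_of_nrm mC_nrm, ?_, ?_, ?_, ?_⟩
  · intro y hy
    apply Subtype.ext
    rw [coe_cj, bP_comm (mem_E22.1 hy), mul_inv_cancel_right]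
  · intro i
    obtain ⟨h1, h2, h3, -⟩ := xC_spec i.2
    exact ⟨el22_mem h1, nm_of_nrm h2, delta_eq ok_bP pm_bP_D22 (ok22_of_nrm h2) (ok22_of_WL h1) h3⟩
  · exact el22_ne (P := xC.getD 0 0) (by decide +kernel) (by decide +kernel)
  · exact five (P := xC.getD 0 0) (Q := xC.getD 1 0) (R := xC.getD 2 0) (S := xC.getD 3 0) (T := xC.getD 4 0)
      (by decide +kernel) (by decide +kernel) (by decide +kernel) (by decide +kernel) (by decide +kernel)
      (by decide +kernel)
  · have h := five (P := dC) (Q := dC) (R := dC) (S := dC) (T := dC)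
      (by decide +kernel) (by decide +kernel) (by decide +kernel) (by decide +kernel) (by decide +kernel)
      (by decide +kernel)
    rw [← h, show (5 : ℕ) = 1 + 1 + 1 + 1 + 1 from rfl, pow_add, pow_add, pow_add, pow_add, pow_one]
  · apply Subtype.ext
    rw [coe_cj, coe_el22 (ok22_of_nrm dC_nrm), eq_two (isPerm_of_ok ok_bP) (isPerm22 (ok22_of_nrm dC_nrm))
      (isPerm22 (ok22_of_nrm dC_nrm)) (isPerm_of_ok ok_bP) (by decide +kernel), mul_inv_cancel_right]
  · intro i
    obtain ⟨h1, -, -, h4⟩ := xC_spec i.2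
    obtain ⟨h1', -⟩ := xC_spec (i + 1).2
    refine conj_eq' (ok22_of_nrm dC_nrm) (ok22_of_WL h1) (ok22_of_WL h1') ?_
    rw [hval i]
    exact h4
  · apply Subtype.ext
    show (el22 mC : Equiv.Perm GolayPt) * (el22 mC : Equiv.Perm GolayPt) = 1
    rw [coe_el22 (ok22_of_nrm mC_nrm)]
    exact eq_nil (isPerm22 (ok22_of_nrm mC_nrm)) (isPerm22 (ok22_of_nrm mC_nrm)) (by decide +kernel)
  · exact delta_eq (x := xC.getD 0 0) ok_bP pm_bP_D22 (ok22_of_nrm mC_nrm) (by decide +kernel) (by decide +kernel)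
  · exact conj_mul_eq (m := mC) (x := xC.getD 1 0) (y := xC.getD 2 0) (w := xC.getD 0 0) (by decide +kernel)
      (by decide +kernel) (by decide +kernel) (by decide +kernel) (by decide +kernel)
  · exact conj_mul_eq (m := mC) (x := xC.getD 3 0) (y := xC.getD 4 0) (w := xC.getD 0 0) (by decide +kernel)
      (by decide +kernel) (by decide +kernel) (by decide +kernel) (by decide +kernel)

/-! ### All outer involutions -/

/-- the field `conf` of `PData` -/
theorem conf (β : MulAut Spor.M22) (h2 : β * β = 1) (hout : ∀ x, β ≠ MulAut.conj x) :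
    ∃ g : Spor.M22, ConfB E22 (MulAut.conj g * β * (MulAut.conj g)⁻¹) ∨
      ConfC E22 (MulAut.conj g * β * (MulAut.conj g)⁻¹) := by
  obtain ⟨h, hh, hβ⟩ := exists_D β
  have hn := not_mem_of_outer hβ hout
  have hsq : h * h = 1 := by
    refine eq_of_conj (D22.mul_mem hh hh) D22.one_mem fun x => ?_
    have h3 : ((β * β) x : Equiv.Perm GolayPt) = x := by rw [h2]; rfl
    rw [MulAut.mul_apply, hβ, hβ] at h3
    calc h * h * (x : Equiv.Perm GolayPt) * (h * h)⁻¹ = h * (h * x * h⁻¹) * h⁻¹ := by group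
      _ = x := h3
      _ = 1 * x * 1⁻¹ := by group
  -- the conjugate of `β` is the conjugation by `A`
  have key : ∀ (A : Equiv.Perm GolayPt) (hA : A ∈ D22) (g : Spor.M22),
      h = (g : Equiv.Perm GolayPt) * A * (g : Equiv.Perm GolayPt)⁻¹ →
      MulAut.conj g⁻¹ * β * (MulAut.conj g⁻¹)⁻¹ = cj A hA := by
    intro A hA g e
    apply MulEquiv.ext
    intro x
    apply Subtype.ext
    rw [coe_cj]
    have h4 : (MulAut.conj g⁻¹ * β * (MulAut.conj g⁻¹)⁻¹) x = g⁻¹ * β (g * x * g⁻¹) * g := by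
      rw [← map_inv, inv_inv, MulAut.mul_apply, MulAut.mul_apply, MulAut.conj_apply, MulAut.conj_apply, inv_inv]
    rw [h4]
    show (g : Equiv.Perm GolayPt)⁻¹ * (β (g * x * g⁻¹) : Equiv.Perm GolayPt) * (g : Equiv.Perm GolayPt) =
      A * x * A⁻¹
    rw [hβ, e]
    show (g : Equiv.Perm GolayPt)⁻¹ * ((g : Equiv.Perm GolayPt) * A * (g : Equiv.Perm GolayPt)⁻¹ *
      ((g : Equiv.Perm GolayPt) * x * (g : Equiv.Perm GolayPt)⁻¹) *
      ((g : Equiv.Perm GolayPt) * A * (g : Equiv.Perm GolayPt)⁻¹)⁻¹) * (g : Equiv.Perm GolayPt) = A * x * A⁻¹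
    group
  obtain ⟨g, hg, e | e⟩ := outer_cases hh hn hsq
  · refine ⟨(⟨g, hg⟩ : Spor.M22)⁻¹, Or.inl ?_⟩
    rw [key _ pm_aP_D22 ⟨g, hg⟩ e]
    exact confB
  · refine ⟨(⟨g, hg⟩ : Spor.M22)⁻¹, Or.inr ?_⟩
    rw [key _ pm_bP_D22 ⟨g, hg⟩ e]
    exact confC

end Cfsg.Agent.OddHalf.D9.M22.ConfM22

end

-- merged: Cfsg.Agent.OddHalf.D9.M22.PDataM22
section

/-!
# The facts `CovPair.PData` for `M22` (helper278)

`pdata : PData Spor.M22 E22 a22 b22`.
-/

set_option autoImplicit false
set_option Elab.async false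

namespace Cfsg.Agent.OddHalf.D9.M22.PDataM22

open Cfsg Cfsg.Agent.SporadicA.GolayBase Cfsg.Agent.SporadicA.GolayPerm
open Cfsg.Agent.SporadicStructure.M24El Cfsg.Agent.KFacts.MM
open Cfsg.Agent.KFacts.MM.El (pm pr ev val weq okl pts)
open Cfsg.Agent.KFacts.MM.Data (WL zP kW)
open Cfsg.Agent.OddHalf.D9.M22.DataU (nL)
open Cfsg.Agent.KFacts.MM.InvM22 (isPerm_of_ok)
open Cfsg.Agent.OddHalf.D9.M22 Cfsg.Agent.OddHalf.D9.M22.EDataM22 Cfsg.Agent.OddHalf.D9.M22.UFact
open Cfsg.Agent.OddHalf.D9.M22.CovPair (Nm PData)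

theorem nm_of_Nrm {g : Equiv.Perm GolayPt} (h : Nrm g) : Nm E22 (⟨g, h.1⟩ : Spor.M22) :=
  ⟨fun _ hw => h.2 _ hw, fun _ hw => h.inv_mem hw⟩

theorem Nm.mul {X : Type*} [Group X] {E : Subgroup X} {m n : X} (hm : Nm E m) (hn : Nm E n) : Nm E (m * n) := by
  refine ⟨fun w hw => ?_, fun w hw => ?_⟩
  · have h := hm.1 _ (hn.1 w hw)
    have e : m * (n * w * n⁻¹) * m⁻¹ = m * n * w * (m * n)⁻¹ := by group
    rwa [e] at h
  · have h := hn.2 _ (hm.2 w hw)
    have e : n⁻¹ * (m⁻¹ * w * m) * n = (m * n)⁻¹ * w * (m * n) := by group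
    rwa [e] at h

theorem Nm.inv {X : Type*} [Group X] {E : Subgroup X} {m : X} (hm : Nm E m) : Nm E m⁻¹ := by
  refine ⟨fun w hw => ?_, fun w hw => ?_⟩
  · rw [inv_inv]; exact hm.2 w hw
  · rw [inv_inv]; exact hm.1 w hw

theorem cent (x : Spor.M22) (h : ∀ y ∈ E22, x * y = y * x) : x ∈ E22 := by
  rw [mem_E22]
  apply mem_E_of_comm x.2
  intro w hw
  exact congrArg Subtype.val (h ⟨w, E_le hw⟩ hw)

/-- `z` as an element of `M22` -/
noncomputable def z22 : Spor.M22 := ⟨pm zP, E_le zP_mem⟩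

theorem tran_z (x : Spor.M22) (hx : x ∈ E22) (hx1 : x ≠ 1) : ∃ n : Spor.M22, Nm E22 n ∧ n * z22 * n⁻¹ = x := by
  obtain ⟨n, hn, h⟩ := exists_conj_z (mem_E22.1 hx) (fun h => hx1 (Subtype.ext h))
  exact ⟨⟨n, hn.1⟩, nm_of_Nrm hn, Subtype.ext h⟩

theorem tran (x : Spor.M22) (hx : x ∈ E22) (y : Spor.M22) (hy : y ∈ E22) (hx1 : x ≠ 1) (hy1 : y ≠ 1) :
    ∃ n : Spor.M22, Nm E22 n ∧ n * x * n⁻¹ = y := by
  obtain ⟨m, hm, h1⟩ := tran_z x hx hx1
  obtain ⟨n, hn, h2⟩ := tran_z y hy hy1
  refine ⟨n * m⁻¹, Nm.mul hn (Nm.inv hm), ?_⟩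
  rw [← h1, ← h2]
  group

/-! ### The packed elements of `E` -/

theorem coe_ne {P Q : ℕ} (hP : P ∈ WL) (hQ : Q ∈ WL) (h : weq [P] [Q] = false) : pm P ≠ pm Q := by
  have h1 := El.pr_ne (okl_one (perm_of_WL hP)) (okl_one (perm_of_WL hQ)) h
  rwa [El.pr_one, El.pr_one] at h1

def p1 : ℕ := 961365507626256404119956257276790816
def p2 : ℕ := 972512676110088067912772961567868960
def p3 : ℕ := 960831283963798152912375878980765728

theorem m1 : p1 ∈ WL := by decide +kernel
theorem m2 : p2 ∈ WL := by decide +kernel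
theorem m3 : p3 ∈ WL := by decide +kernel
theorem m0 : idP ∈ WL := by decide +kernel

theorem eight : ∃ x ∈ E22, ∃ y ∈ E22, ∃ w ∈ E22, x ≠ 1 ∧ y ≠ 1 ∧ w ≠ 1 ∧ x ≠ y ∧ x ≠ w ∧ y ≠ w ∧ w ≠ x * y := by
  have one : ∀ {P : ℕ}, P ∈ WL → weq [P] [idP] = false → pm P ≠ 1 := fun hP h => by
    rw [← pm_idP]; exact coe_ne hP m0 h
  refine ⟨⟨pm p1, E_le (pm_mem_E m1)⟩, pm_mem_E m1, ⟨pm p2, E_le (pm_mem_E m2)⟩, pm_mem_E m2,
    ⟨pm p3, E_le (pm_mem_E m3)⟩, pm_mem_E m3, ?_, ?_, ?_, ?_, ?_, ?_, ?_⟩
  · exact fun h => one m1 (by decide +kernel) (congrArg Subtype.val h)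
  · exact fun h => one m2 (by decide +kernel) (congrArg Subtype.val h)
  · exact fun h => one m3 (by decide +kernel) (congrArg Subtype.val h)
  · exact fun h => coe_ne m1 m2 (by decide +kernel) (congrArg Subtype.val h)
  · exact fun h => coe_ne m1 m3 (by decide +kernel) (congrArg Subtype.val h)
  · exact fun h => coe_ne m2 m3 (by decide +kernel) (congrArg Subtype.val h)
  · intro h
    have h1 : pr [p3] = pr [p1, p2] := by
      rw [El.pr_one, El.pr_cons, El.pr_one]
      exact congrArg Subtype.val h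
    exact El.pr_ne (okl_one (perm_of_WL m3)) (okl_two (perm_of_WL m1) (perm_of_WL m2)) (by decide +kernel) h1

/-! ### The lines -/

theorem nL_nrm : (nL.all fun n => nrm n && weq [n, n] []) = true := by decide +kernel

theorem lines : (WL.all fun P => Nat.beq P idP || WL.all fun Q => Nat.beq Q idP || Nat.beq P Q ||
    nL.any fun n => weq [n, P] [Q, n] || weq [n, P] [P, Q, n] || weq [n, Q] [P, Q, n]) = true := by
  decide +kernel

theorem line (x : Spor.M22) (hx : x ∈ E22) (y : Spor.M22) (hy : y ∈ E22) (hx1 : x ≠ 1) (hy1 : y ≠ 1)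
    (hxy : x ≠ y) : ∃ n : Spor.M22, n * n = 1 ∧ Nm E22 n ∧
      (n * x * n⁻¹ = y ∨ n * x * n⁻¹ = x * y ∨ n * y * n⁻¹ = x * y) := by
  obtain ⟨P, hP, hPx⟩ := mem_E.1 (mem_E22.1 hx)
  obtain ⟨Q, hQ, hQy⟩ := mem_E.1 (mem_E22.1 hy)
  have h1 := List.all_eq_true.1 lines P hP
  rw [Bool.or_eq_true] at h1
  rcases h1 with h1 | h1
  · exfalso
    apply hx1
    apply Subtype.ext
    rw [← hPx, Nat.eq_of_beq_eq_true h1, pm_idP]
    rfl
  have h2 := List.all_eq_true.1 h1 Q hQ
  rw [Bool.or_eq_true, Bool.or_eq_true] at h2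
  rcases h2 with (h2 | h2) | h2
  · exfalso
    apply hy1
    apply Subtype.ext
    rw [← hQy, Nat.eq_of_beq_eq_true h2, pm_idP]
    rfl
  · exfalso
    apply hxy
    apply Subtype.ext
    rw [← hPx, ← hQy, Nat.eq_of_beq_eq_true h2]
  obtain ⟨n, hn, h3⟩ := List.any_eq_true.1 h2
  have h4 := List.all_eq_true.1 nL_nrm n hn
  rw [Bool.and_eq_true] at h4
  have hN := nrm_pm h4.1
  have hp : isPerm n = true := isPerm_of_ok (ok_of_ok22 (ok22_of_nrm h4.1))
  have iP := perm_of_WL hP
  have iQ := perm_of_WL hQ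
  refine ⟨⟨pm n, hN.1⟩, Subtype.ext (eq_nil hp hp h4.2), nm_of_Nrm hN, ?_⟩
  rw [Bool.or_eq_true, Bool.or_eq_true] at h3
  rcases h3 with (h3 | h3) | h3
  · left
    apply Subtype.ext
    change pm n * (x : Equiv.Perm GolayPt) * (pm n)⁻¹ = y
    rw [← hPx, ← hQy, eq_two hp iP iQ hp h3, mul_inv_cancel_right]
  · right; left
    apply Subtype.ext
    change pm n * (x : Equiv.Perm GolayPt) * (pm n)⁻¹ = x * y
    have h5 := El.pr_of_weq (okl_two hp iP) (okl_three iP iQ hp) h3
    rw [El.pr_cons, El.pr_one, El.pr_cons, El.pr_cons, El.pr_one, ← mul_assoc] at h5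
    rw [← hPx, ← hQy, h5, mul_inv_cancel_right]
  · right; right
    apply Subtype.ext
    change pm n * (y : Equiv.Perm GolayPt) * (pm n)⁻¹ = x * y
    have h5 := El.pr_of_weq (okl_two hp iQ) (okl_three iP iQ hp) h3
    rw [El.pr_cons, El.pr_one, El.pr_cons, El.pr_cons, El.pr_one, ← mul_assoc] at h5
    rw [← hPx, ← hQy, h5, mul_inv_cancel_right]

/-- **`M22` satisfies `PData`.** -/
theorem pdata : PData Spor.M22 E22 a22 b22 :=
  { edata with
    cent := cent
    tran := fun x hx y hy hx1 hy1 => tran x hx y hy hx1 hy1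
    eight := eight
    line := fun x hx y hy hx1 hy1 hxy => line x hx y hy hx1 hy1 hxy
    fixv := fixv
    fix2 := fix2
    conf := ConfM22.conf }

theorem exists_pdata : ∃ (E : Subgroup Spor.M22) (a b : Spor.M22), PData Spor.M22 E a b := ⟨_, _, _, pdata⟩

end Cfsg.Agent.OddHalf.D9.M22.PDataM22

end
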