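import Mathlib
import Cfsg.Agent.OddHalf.D9.DoubleKill
import Cfsg.Agent.OddHalf.D9.M22.CovFour
import Cfsg.Agent.OddHalf.D9.M22.CovPair
import Cfsg.Agent.OddHalf.D9.M22.RowFour

-- merged: Cfsg.Agent.OddHalf.D9.SquareKill
section

/-!
# The square functor: the kill for `2.M₂₂` and `4.M₂₂`

`K` is normal in `C_G(z)`, `z ∈ Z(K)` is the only involution of the 2-group `C_G(K)`. For a conjugate `e` of `z` in
`C_G(z)` let `B(e)` be the set of the elements of `C_G(z, e)` commuting with all the elements of odd order of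
`C_G(z, e)`. `SFacts z` collects facts about `K` which imply: for a noncentral involution `e ∈ K` conjugate to
`z`, `z` is a square in `B(e)`, and all squares in `B(e)` centralise `K`. This contradicts the symmetry between
`(z, e)` and `(e', z)`, `e = z ^ g`, `e' = z ^ g⁻¹`. The outer conjugates are excluded by `OutKill`.
-/

set_option autoImplicit false

namespace Cfsg.Agent.OddHalf.D9.SquareKill

open Subgroup DoubleKill

/-- The facts about `K` used by `eq_of_mem_Nn`. -/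
structure InFacts {K : Type*} [Group K] (z : K) : Prop where
  zz : z * z = 1
  z1 : z ≠ 1
  zc : ∀ y : K, y * z = z * y
  /-- `z` is the only involution of the centre -/
  zu : ∀ c : K, (∀ y, c * y = y * c) → c * c = 1 → c = 1 ∨ c = z
  /-- (N1) -/
  inv : ∀ k : K, (∀ y, k * k * y = y * (k * k)) → ∃ c : K, (∀ y, c * y = y * c) ∧ k * c * (k * c) = 1
  /-- (N2) -/
  fix : ∀ e : K, e * e = 1 → (¬ ∀ y, e * y = y * e) → ∀ α : MulAut K, α e = e →
    (∀ x, Odd (orderOf x) → x * e = e * x → α x = x) → α * α = 1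
  /-- (N3) -/
  nosq : (∀ c : K, (∀ y, c * y = y * c) → c = 1 ∨ c = z) → ∀ y : K, y * y ≠ z
  /-- (N3) -/
  root : (∀ c : K, (∀ y, c * y = y * c) → c = 1 ∨ c = z) →
    ∀ e : K, e * e = 1 → (¬ ∀ y, e * y = y * e) → ∃ y, y * y = e
  /-- (N4) -/
  lift : (∀ c : K, (∀ y, c * y = y * c) → c = 1 ∨ c = z) →
    ∀ α : MulAut K, α * α = 1 → (∀ k, α ≠ MulAut.conj k) → ∀ e : K, e * e = 1 → (¬ ∀ y, e * y = y * e) →
    ∃ k : K, k * α k = 1 ∧ k * α e * k⁻¹ = e ∧ ∀ x, Odd (orderOf x) → x * e = e * x → k * α x * k⁻¹ = x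
  /-- (N5) -/
  exp2 : ∀ α : MulAut K, ∃ k, α * α = MulAut.conj k

/-- The facts about `K` used by `false_of_sfacts`. -/
structure SFacts {K : Type*} [Group K] (z : K) : Prop extends InFacts z where
  /-- (N6) -/
  out : ∀ α : MulAut K, α * α = 1 → (∀ k, α ≠ MulAut.conj k) →
    ∃ k, α k * k⁻¹ ≠ 1 ∧ α k * k⁻¹ ∈ closure {x | ∃ y, α y = y ∧ y * y = x}

variable {G : Type*} [Group G]

/-- `B(a, b)`: the elements of `C(a, b)` commuting with the elements of odd order of `C(a, b)` -/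
def InB (a b y : G) : Prop :=
  y * a = a * y ∧ y * b = b * y ∧ ∀ x : G, Odd (orderOf x) → x * a = a * x → x * b = b * x → y * x = x * y

theorem InB.conj {a b y : G} (h : InB a b y) (g : G) :
    InB (g * a * g⁻¹) (g * b * g⁻¹) (g * y * g⁻¹) := by
  refine ⟨OutKill.conj_comm g h.1, OutKill.conj_comm g h.2.1, fun x hx hxa hxb => ?_⟩
  have h1 : orderOf (g⁻¹ * x * g⁻¹⁻¹) = orderOf x := (MulAut.conj g⁻¹).orderOf_eq x
  have h2 := OutKill.conj_comm g⁻¹ hxa
  have h3 := OutKill.conj_comm g⁻¹ hxb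
  have e1 : g⁻¹ * (g * a * g⁻¹) * g⁻¹⁻¹ = a := by group
  have e2 : g⁻¹ * (g * b * g⁻¹) * g⁻¹⁻¹ = b := by group
  rw [e1] at h2
  rw [e2] at h3
  have h4 := OutKill.conj_comm g (h.2.2 _ (by rw [h1]; exact hx) h2 h3)
  have e3 : g * (g⁻¹ * x * g⁻¹⁻¹) * g⁻¹ = x := by group
  rw [e3] at h4
  exact h4

theorem InB.symm {a b y : G} (h : InB a b y) : InB b a y :=
  ⟨h.2.1, h.1, fun x hx hb ha => h.2.2 x hx ha hb⟩

/-- A finite 2-group with a single involution `z` is `{1, z}` or contains a square root of `z` -/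
theorem exists_root {C : Subgroup G} (hC : IsPGroup 2 C) {z : G}
    (hR : ∀ r ∈ C, r * r = 1 → r = 1 ∨ r = z) :
    (∃ r ∈ C, r * r = z) ∨ ∀ r ∈ C, r = 1 ∨ r = z := by
  classical
  by_cases h : ∀ r ∈ C, r = 1 ∨ r = z
  · right; exact h
  left
  push Not at h
  obtain ⟨r, hr, hr1, hrz⟩ := h
  have hex : ∃ n : ℕ, r ^ 2 ^ n = 1 := by
    obtain ⟨n, hn⟩ := hC ⟨r, hr⟩
    exact ⟨n, Subtype.ext_iff.mp hn⟩
  set n := Nat.find hex with hn
  have h1 : r ^ 2 ^ n = 1 := Nat.find_spec hex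
  have h2 : n ≠ 0 := by
    intro h0
    rw [h0, pow_zero, pow_one] at h1
    exact hr1 h1
  have h3 : n ≠ 1 := by
    intro h0
    rw [h0, pow_one, pow_two] at h1
    rcases hR r hr h1 with h4 | h4
    · exact hr1 h4
    · exact hrz h4
  obtain ⟨m, hm⟩ : ∃ m, n = m + 2 := ⟨n - 2, by omega⟩
  have h4 : r ^ 2 ^ (m + 1) ≠ 1 := Nat.find_min hex (by omega)
  have h5 : r ^ 2 ^ (m + 1) = r ^ 2 ^ m * r ^ 2 ^ m := by
    rw [← pow_add, ← two_mul, ← pow_succ']
  have h6 : r ^ 2 ^ (m + 1) * r ^ 2 ^ (m + 1) = 1 := by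
    rw [← pow_add, ← two_mul, ← pow_succ', ← h1, hm]
  refine ⟨r ^ 2 ^ m, C.pow_mem hr _, ?_⟩
  rw [← h5]
  rcases hR _ (C.pow_mem hr _) h6 with h7 | h7
  · exact absurd h7 h4
  · exact h7

section

variable {K : Subgroup G} {z : G} (hzK : z ∈ K) (hF : InFacts (⟨z, hzK⟩ : K))

include hF

theorem comm_z : ∀ k ∈ K, k * z = z * k := fun k hk => Subtype.ext_iff.mp (hF.zc ⟨k, hk⟩)

theorem zz : z * z = 1 := Subtype.ext_iff.mp hF.zz

theorem z1 : z ≠ 1 := fun h => hF.z1 (Subtype.ext h)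

/-- an involution inducing an inner automorphism on `K` is in `K` -/
theorem mem_K (hR : ∀ r, (∀ k ∈ K, r * k = k * r) → r * r = 1 → r = 1 ∨ r = z) {e : G}
    (he : e * e = 1) (heN : e ∈ Nn K) : e ∈ K := by
  obtain ⟨k, hk, h⟩ := heN
  have hr : ∀ x ∈ K, (k⁻¹ * e) * x = x * (k⁻¹ * e) := by
    intro x hx
    have h1 := h x hx
    calc k⁻¹ * e * x = k⁻¹ * (e * x * e⁻¹) * e := by group
      _ = k⁻¹ * (k * x * k⁻¹) * e := by rw [h1]
      _ = x * (k⁻¹ * e) := by group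
  obtain ⟨r, hr'⟩ : ∃ r, r = k⁻¹ * e := ⟨_, rfl⟩
  rw [← hr'] at hr
  have hek : e = k * r := by rw [hr']; group
  have hkr := hr k hk
  have h2 : (k * k) * (r * r) = 1 := by
    rw [← he, hek]
    calc k * k * (r * r) = k * (k * r) * r := by group
      _ = k * (r * k) * r := by rw [hkr]
      _ = k * r * (k * r) := by group
  have hkk : k * k = (r * r)⁻¹ := eq_inv_of_mul_eq_one_left h2
  have h3 : ∀ x ∈ K, k * k * x = x * (k * k) := by
    intro x hx
    rw [hkk]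
    have h4 : r * r * x = x * (r * r) := by rw [mul_assoc, hr x hx, ← mul_assoc, hr x hx, mul_assoc]
    rw [inv_mul_eq_iff_eq_mul, ← mul_assoc, h4]
    group
  obtain ⟨c, hc, hkc⟩ := hF.inv ⟨k, hk⟩ (fun y => Subtype.ext (h3 y y.2))
  have hcK : ∀ x ∈ K, (c : G) * x = x * c := fun x hx => Subtype.ext_iff.mp (hc ⟨x, hx⟩)
  have hkc' : k * (c : G) * (k * c) = 1 := Subtype.ext_iff.mp hkc
  have hcr : ∀ x ∈ K, ((c : G)⁻¹ * r) * x = x * ((c : G)⁻¹ * r) := by
    intro x hx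
    have h4 : (c : G)⁻¹ * x = x * (c : G)⁻¹ := by
      rw [inv_mul_eq_iff_eq_mul, ← mul_assoc, hcK x hx, mul_inv_cancel_right]
    rw [mul_assoc, hr x hx, ← mul_assoc, h4, mul_assoc]
  have hrr : (c : G)⁻¹ * r * ((c : G)⁻¹ * r) = 1 := by
    have h5 := hcr (k * c) (K.mul_mem hk c.2)
    have h6 : (k * (c : G)) * (k * c) * (((c : G)⁻¹ * r) * ((c : G)⁻¹ * r)) = 1 := by
      rw [← he, hek]
      calc (k * (c : G)) * (k * c) * (((c : G)⁻¹ * r) * ((c : G)⁻¹ * r))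
          = k * c * ((k * c) * ((c : G)⁻¹ * r)) * ((c : G)⁻¹ * r) := by group
        _ = k * c * (((c : G)⁻¹ * r) * (k * c)) * ((c : G)⁻¹ * r) := by rw [h5]
        _ = k * r * (k * r) := by group
    rwa [hkc', one_mul] at h6
  have h7 : e = k * c * ((c : G)⁻¹ * r) := by rw [hek]; group
  rcases hR _ hcr hrr with h6 | h6
  · rw [h7, h6, mul_one]; exact K.mul_mem hk c.2
  · rw [h7, h6]; exact K.mul_mem (K.mul_mem hk c.2) hzK

/-- squares of elements of `C(z)` induce inner automorphisms -/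
theorem sq_mem_Nn (hKn : ∀ h, h * z = z * h → ∀ k ∈ K, h * k * h⁻¹ ∈ K) {y : G}
    (hy : y * z = z * y) : y * y ∈ Nn K := by
  have hyC : y ∈ centralizer ({z} : Set G) := mem_centralizer_singleton_iff.mpr hy
  obtain ⟨k, hk⟩ := hF.exp2 (act hKn ⟨y, hyC⟩)
  rw [← map_mul] at hk
  exact mem_Nn_of_act hKn hk

/-- elements of odd order of `C(z)` are in `K` -/
theorem odd_mem (hKn : ∀ h, h * z = z * h → ∀ k ∈ K, h * k * h⁻¹ ∈ K)
    (hC : IsPGroup 2 (centralizer (K : Set G))) {x : G} (hx : Odd (orderOf x))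
    (hxz : x * z = z * x) : x ∈ K := by
  have h1 := sq_mem_Nn hzK hF hKn hxz
  have hcop : Nat.Coprime 2 (orderOf x) := Nat.coprime_two_left.mpr hx
  obtain ⟨m, hm⟩ := exists_pow_eq_self_of_coprime hcop
  have h2 : x ∈ Nn K := by
    rw [← hm, pow_two]
    exact (Nn K).pow_mem h1 m
  obtain ⟨k, hk, h⟩ := h2
  have hr : ∀ y ∈ K, (k⁻¹ * x) * y = y * (k⁻¹ * x) := by
    intro y hy
    have h3 := h y hy
    calc k⁻¹ * x * y = k⁻¹ * (x * y * x⁻¹) * x := by group
      _ = k⁻¹ * (k * y * k⁻¹) * x := by rw [h3]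
      _ = y * (k⁻¹ * x) := by group
  have hrC : k⁻¹ * x ∈ centralizer (K : Set G) := by
    rw [mem_centralizer_iff]
    intro y hy
    exact (hr y hy).symm
  obtain ⟨n, hn⟩ := hC ⟨_, hrC⟩
  have hn' : (k⁻¹ * x) ^ 2 ^ n = 1 := Subtype.ext_iff.mp hn
  have hcomm : Commute k (k⁻¹ * x) := (hr k hk).symm
  have h4 : x ^ 2 ^ n = k ^ 2 ^ n := by
    have h5 : x = k * (k⁻¹ * x) := by group
    conv_lhs => rw [h5]
    rw [hcomm.mul_pow, hn', mul_one]
  obtain ⟨m', hm'⟩ := exists_pow_eq_self_of_coprime (Nat.Coprime.pow_left n hcop)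
  rw [← hm', h4]
  exact K.pow_mem (K.pow_mem hk _) _

/-- squares in `B(z, e)` centralise `K` -/
theorem sq_cent (hKn : ∀ h, h * z = z * h → ∀ k ∈ K, h * k * h⁻¹ ∈ K) {e : G} (heK : e ∈ K)
    (hee : e * e = 1) (hnc : ¬ ∀ y ∈ K, e * y = y * e) {b : G} (hb : InB z e b) :
    ∀ k ∈ K, b * b * k = k * (b * b) := by
  have hbC : b ∈ centralizer ({z} : Set G) := mem_centralizer_singleton_iff.mpr hb.1
  have h1 := hF.fix ⟨e, heK⟩ (Subtype.ext hee) (fun h => hnc (fun y hy => Subtype.ext_iff.mp (h ⟨y, hy⟩)))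
    (act hKn ⟨b, hbC⟩) (by
      apply Subtype.ext
      show b * e * b⁻¹ = e
      rw [hb.2.1, mul_inv_cancel_right]) (by
      intro x hx hxe
      apply Subtype.ext
      show b * (x : G) * b⁻¹ = x
      have h2 := hb.2.2 (x : G) (by rw [orderOf_coe]; exact hx) (comm_z hzK hF x x.2)
        (Subtype.ext_iff.mp hxe)
      rw [h2, mul_inv_cancel_right])
  intro k hk
  have h2 : (act hKn ⟨b, hbC⟩ * act hKn ⟨b, hbC⟩) ⟨k, hk⟩ = ⟨k, hk⟩ := by rw [h1]; rfl
  have h3 : b * (b * k * b⁻¹) * b⁻¹ = k := Subtype.ext_iff.mp h2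
  calc b * b * k = b * (b * k * b⁻¹) * b⁻¹ * (b * b) := by group
    _ = k * (b * b) := by rw [h3]

/-- `z` is a square in `B(z, e)` -/
theorem exists_sq (hKn : ∀ h, h * z = z * h → ∀ k ∈ K, h * k * h⁻¹ ∈ K)
    (hC : IsPGroup 2 (centralizer (K : Set G)))
    (hR : ∀ r, (∀ k ∈ K, r * k = k * r) → r * r = 1 → r = 1 ∨ r = z)
    (g : G) (heK : g * z * g⁻¹ ∈ K) (hnc : ¬ ∀ y ∈ K, g * z * g⁻¹ * y = y * (g * z * g⁻¹)) :
    ∃ b, InB z (g * z * g⁻¹) b ∧ b * b = z := by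
  have hzz := zz hzK hF
  have hKz := comm_z hzK hF
  have hee : g * z * g⁻¹ * (g * z * g⁻¹) = 1 := by
    calc g * z * g⁻¹ * (g * z * g⁻¹) = g * (z * z) * g⁻¹ := by group
      _ = 1 := by rw [hzz]; group
  have memC : ∀ r, r ∈ centralizer (K : Set G) ↔ ∀ k ∈ K, r * k = k * r := by
    intro r
    rw [mem_centralizer_iff]
    exact ⟨fun h k hk => (h k hk).symm, fun h k hk => (h k hk).symm⟩
  rcases exists_root hC (z := z) (fun r hr => hR r ((memC r).mp hr)) with ⟨r, hr, hrr⟩ | hsmall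
  · rw [memC] at hr
    refine ⟨r, ⟨hr z hzK, hr _ heK, fun x hx hxz _ => hr x (odd_mem hzK hF hKn hC hx hxz)⟩, hrr⟩
  · have hcen : ∀ c : K, (∀ y, c * y = y * c) → c = 1 ∨ c = ⟨z, hzK⟩ := by
      intro c hc
      rcases hsmall c ((memC _).mpr (fun k hk => Subtype.ext_iff.mp (hc ⟨k, hk⟩))) with h | h
      · left; exact Subtype.ext h
      · right; exact Subtype.ext h
    have hncK : ¬ ∀ y : K, (⟨g * z * g⁻¹, heK⟩ : K) * y = y * ⟨g * z * g⁻¹, heK⟩ :=
      fun h => hnc (fun y hy => Subtype.ext_iff.mp (h ⟨y, hy⟩))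
    obtain ⟨y, hy⟩ := hF.root hcen ⟨g * z * g⁻¹, heK⟩ (Subtype.ext hee) hncK
    have hyy : (y : G) * y = g * z * g⁻¹ := Subtype.ext_iff.mp hy
    obtain ⟨y', hy'⟩ : ∃ y', y' = g⁻¹ * (y : G) * g := ⟨_, rfl⟩
    have hy'2 : y' * y' = z := by
      rw [hy']
      calc g⁻¹ * (y : G) * g * (g⁻¹ * (y : G) * g) = g⁻¹ * ((y : G) * y) * g := by group
        _ = z := by rw [hyy]; group
    have hy'z : y' * z = z * y' := by
      rw [← hy'2, mul_assoc]
    have hy'C : y' ∈ centralizer ({z} : Set G) := mem_centralizer_singleton_iff.mpr hy'z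
    have hy'K : y' ∉ K := fun h => hF.nosq hcen ⟨y', h⟩ (Subtype.ext hy'2)
    set α := act hKn ⟨y', hy'C⟩ with hα
    have hαα : α * α = 1 := by
      rw [hα, ← map_mul]
      ext k
      show y' * y' * (k : G) * (y' * y')⁻¹ = k
      rw [hy'2, ← hKz k k.2, mul_inv_cancel_right]
    have hαo : ∀ k, α ≠ MulAut.conj k := by
      intro k hk
      obtain ⟨k, hk, h⟩ := mem_Nn_of_act hKn hk
      apply hy'K
      have hr : ∀ x ∈ K, (k⁻¹ * y') * x = x * (k⁻¹ * y') := by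
        intro x hx
        have h3 : y' * x * y'⁻¹ = k * x * k⁻¹ := h x hx
        calc k⁻¹ * y' * x = k⁻¹ * (y' * x * y'⁻¹) * y' := by group
          _ = k⁻¹ * (k * x * k⁻¹) * y' := by rw [h3]
          _ = x * (k⁻¹ * y') := by group
      have h4 : y' = k * (k⁻¹ * y') := by group
      rcases hsmall _ ((memC _).mpr hr) with h5 | h5
      · rw [h4, h5, mul_one]; exact hk
      · rw [h4, h5]; exact K.mul_mem hk hzK
    obtain ⟨k, hk1, hke, hkx⟩ := hF.lift hcen α hαα hαo ⟨g * z * g⁻¹, heK⟩ (Subtype.ext hee) hncK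
    have hk1' : (k : G) * (y' * k * y'⁻¹) = 1 := Subtype.ext_iff.mp hk1
    have hke' : (k : G) * (y' * (g * z * g⁻¹) * y'⁻¹) * (k : G)⁻¹ = g * z * g⁻¹ :=
      Subtype.ext_iff.mp hke
    refine ⟨k * y', ⟨?_, ?_, ?_⟩, ?_⟩
    · rw [mul_assoc, hy'z, ← mul_assoc, hKz k k.2, mul_assoc]
    · calc (k : G) * y' * (g * z * g⁻¹)
          = (k : G) * (y' * (g * z * g⁻¹) * y'⁻¹) * (k : G)⁻¹ * (k * y') := by group
        _ = g * z * g⁻¹ * (k * y') := by rw [hke']
    · intro x hx hxz hxe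
      have hxK := odd_mem hzK hF hKn hC hx hxz
      have h1 := hkx ⟨x, hxK⟩ (by rw [orderOf_mk]; exact hx) (Subtype.ext hxe)
      have h2 : (k : G) * (y' * x * y'⁻¹) * (k : G)⁻¹ = x := Subtype.ext_iff.mp h1
      calc (k : G) * y' * x = (k : G) * (y' * x * y'⁻¹) * (k : G)⁻¹ * (k * y') := by group
        _ = x * (k * y') := by rw [h2]
    · calc (k : G) * y' * (k * y') = (k : G) * (y' * k * y'⁻¹) * (y' * y') := by group
        _ = z := by rw [hk1', one_mul, hy'2]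

/-- no other conjugate of `z` induces an inner automorphism on `K` -/
theorem eq_of_mem_Nn (hKn : ∀ h, h * z = z * h → ∀ k ∈ K, h * k * h⁻¹ ∈ K)
    (hC : IsPGroup 2 (centralizer (K : Set G)))
    (hR : ∀ r, (∀ k ∈ K, r * k = k * r) → r * r = 1 → r = 1 ∨ r = z)
    (g : G) (hg : g * z * g⁻¹ ∈ Nn K) : g * z * g⁻¹ = z := by
  by_contra hne
  have hzz := zz hzK hF
  have hz1 := z1 hzK hF
  have sqc : ∀ g : G, g * z * g⁻¹ * (g * z * g⁻¹) = 1 := by
    intro g
    calc g * z * g⁻¹ * (g * z * g⁻¹) = g * (z * z) * g⁻¹ := by group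
      _ = 1 := by rw [hzz]; group
  have nc : ∀ g : G, g * z * g⁻¹ ≠ z → ∀ h : g * z * g⁻¹ ∈ K,
      ¬ ∀ y ∈ K, g * z * g⁻¹ * y = y * (g * z * g⁻¹) := by
    intro g hne h hall
    rcases hF.zu ⟨g * z * g⁻¹, h⟩ (fun y => Subtype.ext (hall y y.2)) (Subtype.ext (sqc g)) with h1 | h1
    · apply hz1
      have h2 : g * z * g⁻¹ = 1 := Subtype.ext_iff.mp h1
      calc z = g⁻¹ * (g * z * g⁻¹) * g := by group
        _ = 1 := by rw [h2]; group
    · exact hne (Subtype.ext_iff.mp h1)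
  have heK := mem_K hzK hF hR (sqc g) hg
  obtain ⟨b, hb, hbb⟩ := exists_sq hzK hF hKn hC hR g heK (nc g hne heK)
  -- `e' = z ^ g⁻¹` is a square in `C(z)`
  have hb' := hb.conj g⁻¹
  have e1 : g⁻¹ * (g * z * g⁻¹) * g⁻¹⁻¹ = z := by group
  rw [e1] at hb'
  have he'N : g⁻¹ * z * g⁻¹⁻¹ ∈ Nn K := by
    have h1 := sq_mem_Nn hzK hF hKn hb'.2.1
    have h2 : g⁻¹ * b * g⁻¹⁻¹ * (g⁻¹ * b * g⁻¹⁻¹) = g⁻¹ * z * g⁻¹⁻¹ := by
      rw [← hbb]; group
    rwa [h2] at h1
  have hne' : g⁻¹ * z * g⁻¹⁻¹ ≠ z := by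
    intro h
    apply hne
    have h4 : g * (g⁻¹ * z * g⁻¹⁻¹) * g⁻¹ = z := by group
    rw [h] at h4
    exact h4
  have he'K := mem_K hzK hF hR (sqc g⁻¹) he'N
  obtain ⟨b1, hb1, hb1b⟩ := exists_sq hzK hF hKn hC hR g⁻¹ he'K (nc g⁻¹ hne' he'K)
  have hb2 := (hb1.conj g).symm
  have e2 : g * (g⁻¹ * z * g⁻¹⁻¹) * g⁻¹ = z := by group
  rw [e2] at hb2
  have h3 := sq_cent hzK hF hKn heK (sqc g) (nc g hne heK) hb2
  have h4 : g * b1 * g⁻¹ * (g * b1 * g⁻¹) = g * z * g⁻¹ := by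
    rw [← hb1b]; group
  rw [h4] at h3
  exact nc g hne heK h3

omit hF in
/-- **Kill.** -/
theorem false_of_sfacts (hS : SFacts (⟨z, hzK⟩ : K)) [Finite G] [IsSimpleGroup G]
    (hnc : ¬ IsMulCommutative G)
    (hKn : ∀ h, h * z = z * h → ∀ k ∈ K, h * k * h⁻¹ ∈ K)
    (hC : IsPGroup 2 (centralizer (K : Set G)))
    (hR : ∀ r, (∀ k ∈ K, r * k = k * r) → r * r = 1 → r = 1 ∨ r = z) : False := by
  have hF := hS.toInFacts
  have hzz := zz hzK hF
  have hz1 := z1 hzK hF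
  have hKz := comm_z hzK hF
  have hord : orderOf z = 2 := orderOf_eq_prime (by rw [pow_two]; exact hzz) hz1
  have hiz := OutKill.isolated (F := OutKill.Sq) OutKill.functor_sq hord (le_Nn K hzK)
    (eq_of_mem_Nn hzK hF hKn hC hR) (by
      intro g _ _
      unfold OutKill.Sq
      rw [closure_le]
      rintro _ ⟨y, hy, -, rfl⟩
      exact sq_mem_Nn hzK hF hKn hy) (by
      intro g hcom hN
      have heC : g * z * g⁻¹ ∈ centralizer ({z} : Set G) := mem_centralizer_singleton_iff.mpr hcom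
      have hee : g * z * g⁻¹ * (g * z * g⁻¹) = 1 := by
        calc g * z * g⁻¹ * (g * z * g⁻¹) = g * (z * z) * g⁻¹ := by group
          _ = 1 := by rw [hzz]; group
      obtain ⟨e, he⟩ : ∃ e, e = g * z * g⁻¹ := ⟨_, rfl⟩
      rw [← he] at hcom hN heC hee ⊢
      obtain ⟨k, hk1, hk2⟩ := hS.out (act hKn ⟨e, heC⟩) (by
        rw [← map_mul]
        have : (⟨e, heC⟩ : centralizer ({z} : Set G)) * ⟨e, heC⟩ = 1 := Subtype.ext hee
        rw [this, map_one]) (by
        intro k hk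
        exact hN (mem_Nn_of_act hKn hk))
      have hei : e⁻¹ = e := inv_eq_of_mul_eq_one_right hee
      refine ⟨k, ((act hKn ⟨e, heC⟩ k * k⁻¹ : K) : G), fun h => hk1 (Subtype.ext h), ?_, ?_⟩
      · have h1 : closure {x : K | ∃ y, act hKn ⟨e, heC⟩ y = y ∧ y * y = x} ≤
            (OutKill.Sq z e).comap K.subtype := by
          rw [closure_le]
          rintro _ ⟨y, hy, rfl⟩
          refine subset_closure ⟨y, hKz y y.2, ?_, rfl⟩
          have h2 : e * (y : G) * e⁻¹ = y := Subtype.ext_iff.mp hy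
          exact (mul_inv_eq_iff_eq_mul.mp h2).symm
        exact h1 hk2
      · show (k : G) * e * (k : G)⁻¹ = e * (e * k * e⁻¹ * (k : G)⁻¹)
        rw [hei]
        calc (k : G) * e * (k : G)⁻¹ = (e * e) * k * e * (k : G)⁻¹ := by rw [hee, one_mul]
          _ = e * (e * k * e * (k : G)⁻¹) := by group)
  refine Cfsg.Agent.J2Type.SimpleRed.not_isolated z hiz ?_
  by_contra hcon
  push Not at hcon
  exact hnc ⟨⟨hcon⟩⟩

end

end Cfsg.Agent.OddHalf.D9.SquareKill

end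

-- merged: Cfsg.Agent.OddHalf.D9.CovTwoSmall
section

/-!
# `z^G ∩ KR = {z}` from `SquareKill` (row `2.M₂₂`)

`Fr.inner_of`: in the frame `Fr K q z` the facts `InFacts z` (N1–N5) give `z^G ∩ KR = {z}`.
-/

set_option autoImplicit false

namespace Cfsg.Agent.OddHalf.D9.CovTwoSmall

open Subgroup Cfsg.Agent.OddHalf.D9.CovTwo Cfsg.Agent.OddHalf.D9.SquareKill

universe u

variable {G : Type u} [Group G] {K : Subgroup G} {q z : G}

theorem KR_le_Nn (F : Fr K q z) {h : G} (hh : KR K q h) : h ∈ DoubleKill.Nn K := by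
  obtain ⟨k, hk, r, hr, rfl⟩ := hh
  refine ⟨k, hk, fun x hx => ?_⟩
  have h1 := F.kr hx hr
  calc k * r * x * (k * r)⁻¹ = k * (r * x) * r⁻¹ * k⁻¹ := by group
    _ = k * (x * r) * r⁻¹ * k⁻¹ := by rw [h1]
    _ = k * x * k⁻¹ := by group

theorem cent_iff (F : Fr K q z) (r : G) : r ∈ centralizer (K : Set G) ↔ r ∈ zpowers q := by
  rw [mem_centralizer_iff]
  constructor
  · intro h
    exact F.cK r (h z F.zK).symm h
  · intro h x hx
    exact F.QK r h x hx

theorem isPGroup (F : Fr K q z) : IsPGroup 2 (centralizer (K : Set G)) := by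
  have h : centralizer (K : Set G) = zpowers q := by
    ext r
    exact cent_iff F r
  rw [h]
  exact F.pQ

theorem uniq [Finite G] (F : Fr K q z) : ∀ r, (∀ k ∈ K, r * k = k * r) → r * r = 1 → r = 1 ∨ r = z := by
  intro r hr hrr
  by_cases h1 : r = 1
  · exact Or.inl h1
  · right
    refine F.uniq ?_ hrr h1
    rw [← cent_iff F, mem_centralizer_iff]
    intro x hx
    exact (hr x hx).symm

/-- **`z^G ∩ KR = {z}`** -/
theorem inner_of [Finite G] (F : Fr K q z) (hF : InFacts (⟨z, F.zK⟩ : ↥K)) (g : G)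
    (hg : KR K q (g * z * g⁻¹)) : g * z * g⁻¹ = z :=
  eq_of_mem_Nn F.zK hF (fun _ hh _ hk => F.nrm hh hk) (isPGroup F) (uniq F) g (KR_le_Nn F hg)

/-- the row from `InFacts`, `OutTwo`, `OutSq` -/
theorem false_of [Finite G] (F : Fr K q z) (hO : OutTwo ↥K) (hF : InFacts (⟨z, F.zK⟩ : ↥K))
    (hII : OutSq (⟨z, F.zK⟩ : ↥K)) (hne : ∃ g : G, g * z * g⁻¹ ≠ z ∧ g * z * g⁻¹ * z = z * (g * z * g⁻¹)) :
    False :=
  F.false_of_inner hO (inner_of F hF) hII hne

end Cfsg.Agent.OddHalf.D9.CovTwoSmall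

end

-- merged: Cfsg.Agent.OddHalf.D9.M22.RowTwo
section

/-!
# D9: the row `2.M22` (helper322)

`row` : the row `m22` of `D9/Cut.lean` from the facts `PData` on `M22`.
-/

set_option autoImplicit false

namespace Cfsg.Agent.OddHalf.D9.M22.RowTwo

open Subgroup Cfsg Cfsg.Agent.OddHalf.Iface
open Cfsg.Agent.OddHalf.D9.CovTwo Cfsg.Agent.OddHalf.D9.M22.Lift Cfsg.Agent.OddHalf.D9.M22.CovPair
open Cfsg.Agent.OddHalf.D9.M22.RowFour (cov_of)

universe u v

/-- the facts for `SquareKill` -/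
theorem inFacts {K : Type u} [Group K] {X : Type v} [Group X] {π : K →* X} {E : Subgroup X} {a b : X} {z : K}
    [Finite K] (C : Cov π) (D : PData X E a b) (R : Pair z) : SquareKill.InFacts z where
  zz := R.zz
  z1 := R.z1
  zc y := (R.zc y).symm
  zu c hc _ := R.cases c (mem_center_iff.2 fun y => (hc y).symm)
  inv k hk := by
    have h1 : k * k ∈ center K := mem_center_iff.2 fun y => (hk y).symm
    have h2 : π k * π k = 1 := by rw [← map_mul]; exact (C.ker _).2 h1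
    exact ⟨1, fun y => by rw [one_mul, mul_one], by rw [mul_one]; exact R.sq_one C D h2⟩
  fix e he hec α hα hx := R.fix C D he (fun h => hec fun y => (mem_center_iff.1 h y).symm) hα hx
  nosq _ := R.nosq C D
  root _ e he hec := R.root C D he fun h => hec fun y => (mem_center_iff.1 h y).symm
  lift _ α hα hout e he hec := R.lift C D hα hout he fun h => hec fun y => (mem_center_iff.1 h y).symm
  exp2 := Pair.exp2 C D

/-- the centre of order 2 -/
theorem exists_pair {K : Type u} [Group K] (h2 : Nat.card ↥(center K) = 2) : ∃ z : K, Pair z := by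
  have : Finite ↥(center K) := Nat.finite_of_card_ne_zero (by rw [h2]; norm_num)
  obtain ⟨x, y, hxy, hall⟩ := Nat.card_eq_two_iff.1 h2
  have hcase : ∀ c : ↥(center K), c = x ∨ c = y := by
    intro c
    have h := Set.mem_univ c
    rw [← hall] at h
    simpa using h
  obtain ⟨z, hz1, hz⟩ : ∃ z : ↥(center K), z ≠ 1 ∧ ∀ c : ↥(center K), c = 1 ∨ c = z := by
    rcases hcase 1 with h | h
    · exact ⟨y, fun h' => hxy (by rw [← h, h']), fun c => by rw [h]; exact hcase c⟩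
    · exact ⟨x, fun h' => hxy (by rw [← h, h']), fun c => by rw [h]; exact (hcase c).symm⟩
  refine ⟨z, z.2, fun c hc => ?_, ?_, fun h => hz1 (Subtype.ext h)⟩
  · rcases hz ⟨c, hc⟩ with h | h
    · left; exact congrArg Subtype.val h
    · right; exact congrArg Subtype.val h
  · rcases hz (z * z) with h | h
    · exact congrArg Subtype.val h
    · exact absurd (mul_eq_left.1 h) hz1

/-- **The row `2.X`** -/
theorem false_two {G : Type u} [Group G] (C : Ctx G) {K : Subgroup G} (S : Std0 G K) (hc : Cyc K)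
    (h2 : Nat.card ↥(center ↥K) = 2) {X : Type v} [Group X] {E : Subgroup X} {a b : X} (D : PData X E a b)
    (e : ↥K ⧸ center ↥K ≃* X) : False := by
  have := C.fin
  have := C.simple
  have hcov := cov_of S e
  set π := e.toMonoidHom.comp (QuotientGroup.mk' (center ↥K)) with hπ
  obtain ⟨r, R⟩ := exists_pair h2
  have hne : center ↥K ≠ ⊥ := by
    intro h
    rw [h, Subgroup.card_bot] at h2
    exact absurd h2 (by norm_num)
  obtain ⟨z, q, F⟩ := exists_fr C S hc hne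
  have hrq : (r : G) ∈ zpowers q := F.cK r (F.Kt r r.2) fun x hx =>
    congrArg Subtype.val (mem_center_iff.1 R.mem ⟨x, hx⟩)
  have hrz : (r : G) = z := by
    apply F.uniq hrq
    · exact congrArg Subtype.val R.zz
    · intro h
      exact R.z1 (Subtype.ext h)
  subst hrz
  have hord : orderOf (r : G) = 2 := by
    have : Fact (Nat.Prime 2) := ⟨Nat.prime_two⟩
    exact orderOf_eq_prime (by rw [pow_two]; exact F.tt) F.t1
  obtain hconj := Cfsg.Agent.StandardComponent.AltFinal.exists_conj C.na hord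
  exact CovTwoSmall.false_of F (hcov.outTwo D.out2) (inFacts hcov D R) (R.outSq hcov D) hconj

/-- **D9, row `2.M22`**, from the facts on `M22`. -/
theorem row (D : ∃ (E : Subgroup ↥Spor.M22) (a b : ↥Spor.M22), PData ↥Spor.M22 E a b) :
    Cut.Row.{u} (fun K _ => Cut.Two (fun X _ => Spor.IsoM22 X) K) := by
  intro G _ C K S hc ⟨h2, ⟨e⟩⟩
  obtain ⟨E, a, b, D⟩ := D
  exact false_two C S hc h2 D e

end Cfsg.Agent.OddHalf.D9.M22.RowTwo

end
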